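import Mathlib

/-!
The commutant of an irreducible set of endomorphisms of a finite module is a commutative domain.
-/

set_option autoImplicit false
set_option linter.style.haveILetI false
set_option linter.unusedSectionVars false

namespace CfsgLib.Involutions.OutOmega

variable {V : Type*} [AddCommGroup V] [Module (ZMod 2) V] [Finite V]

/-- The commutant of a set of endomorphisms. -/
abbrev Comm (s : Set (Module.End (ZMod 2) V)) : Subalgebra (ZMod 2) (Module.End (ZMod 2) V) :=
  Subalgebra.centralizer (ZMod 2) s

theorem finite_end : Finite (Module.End (ZMod 2) V) :=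
  Finite.of_injective (fun f => (f : V → V)) DFunLike.coe_injective

theorem finite_comm (s : Set (Module.End (ZMod 2) V)) : Finite (Comm s) :=
  haveI := finite_end (V := V)
  Subtype.finite

theorem comm_apply {s : Set (Module.End (ZMod 2) V)} (c : Comm s)
    {f : Module.End (ZMod 2) V} (hf : f ∈ s) (v : V) :
    f ((c : Module.End (ZMod 2) V) v) = (c : Module.End (ZMod 2) V) (f v) := by
  have h := (Subalgebra.mem_centralizer_iff (ZMod 2)).1 c.2 f hf
  exact LinearMap.congr_fun h v

/-- Irreducibility of a set of endomorphisms. -/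
def Irred (s : Set (Module.End (ZMod 2) V)) : Prop :=
  ∀ W : Submodule (ZMod 2) V, (∀ f ∈ s, ∀ w ∈ W, f w ∈ W) → W = ⊥ ∨ W = ⊤

theorem injective_of_ne_zero {s : Set (Module.End (ZMod 2) V)} (hs : Irred s) {c : Comm s}
    (hc : c ≠ 0) : Function.Injective (c : Module.End (ZMod 2) V) := by
  refine LinearMap.ker_eq_bot.1 ((hs _ fun f hf w hw => ?_).resolve_right fun h => hc ?_)
  · rw [LinearMap.mem_ker] at hw ⊢
    rw [← comm_apply c hf w, hw, map_zero]
  · exact Subtype.ext (LinearMap.ker_eq_top.1 h)

theorem isDomain [Nontrivial V] {s : Set (Module.End (ZMod 2) V)} (hs : Irred s) :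
    IsDomain (Comm s) := by
  haveI : Nontrivial (Comm s) := ⟨⟨1, 0, fun h => by
    obtain ⟨v, hv⟩ := exists_ne (0 : V)
    exact hv (LinearMap.congr_fun (congrArg Subtype.val h) v)⟩⟩
  haveI : NoZeroDivisors (Comm s) := ⟨fun {a b} h => by
    by_contra hab
    push Not at hab
    refine hab.2 (Subtype.ext (LinearMap.ext fun v => injective_of_ne_zero hs hab.1 ?_))
    rw [show ((0 : Comm s) : Module.End (ZMod 2) V) v = 0 from rfl, map_zero]
    exact LinearMap.congr_fun (congrArg Subtype.val h) v⟩
  exact NoZeroDivisors.to_isDomain _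

theorem mul_comm' [Nontrivial V] {s : Set (Module.End (ZMod 2) V)} (hs : Irred s)
    (a b : Comm s) : a * b = b * a := by
  haveI := isDomain hs
  haveI : Finite (Comm s) := finite_comm s
  exact (Finite.isDomain_to_isField (Comm s)).mul_comm a b

theorem exists_inv [Nontrivial V] {s : Set (Module.End (ZMod 2) V)} (hs : Irred s)
    {a : Comm s} (ha : a ≠ 0) : ∃ b : Comm s, a * b = 1 := by
  haveI := isDomain hs
  haveI : Finite (Comm s) := finite_comm s
  exact (Finite.isDomain_to_isField (Comm s)).mul_inv_cancel ha

theorem smul_injective {s : Set (Module.End (ZMod 2) V)} (hs : Irred s) {v : V} (hv : v ≠ 0) :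
    Function.Injective fun c : Comm s => (c : Module.End (ZMod 2) V) v := fun a b h => by
  by_contra hab
  refine hv (injective_of_ne_zero hs (sub_ne_zero.2 hab) ?_)
  change (a : Module.End (ZMod 2) V) v - (b : Module.End (ZMod 2) V) v = _
  rw [map_zero, sub_eq_zero]
  exact h

/-- A finite group mapping injectively into the commutant is cyclic. -/
theorem isCyclic [Nontrivial V] {s : Set (Module.End (ZMod 2) V)} (hs : Irred s) {G : Type*}
    [Group G] [Finite G] (R : G →* Module.End (ZMod 2) V) (hR : Function.Injective R)
    (hmem : ∀ g, R g ∈ Comm s) : IsCyclic G := by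
  haveI := isDomain hs
  letI : CommRing (Comm s) :=
    { (inferInstance : Ring (Comm s)) with mul_comm := mul_comm' hs }
  exact isCyclic_of_injective_ringHom
    ({ toFun := fun g => ⟨R g, hmem g⟩
       map_one' := Subtype.ext (map_one R)
       map_mul' := fun a b => Subtype.ext (map_mul R a b) } : G →* Comm s)
    fun a b h => hR (congrArg Subtype.val h)

end CfsgLib.Involutions.OutOmega
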