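import Cfsg.Agent.Lib.Involutions.OutOmega.Commutant
import Cfsg.Agent.Lib.Recog.ZsigmondyPrime
import Cfsg.Agent.Lib.Recog.TransLinearSolvable
import Cfsg.Agent.Lib.Recog.EPPOTwo.Basic
import Cfsg.Agent.Lib.Recog.OrderSixty
import Cfsg.Agent.Lib.FTCons.ZGroupCoprime
import Cfsg.Agent.Lib.Components.Basic
import Cfsg.Agent.Lib.PGroups.UniqueOrderP

/-!
The normalizer of a linear group over `F₂` that is transitive on the non-zero vectors is a
solvable extension of it.
-/

set_option autoImplicit false
set_option linter.style.haveILetI false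
set_option linter.unusedSectionVars false

namespace CfsgLib.Involutions.OutOmega

open Subgroup

universe u

variable {G : Type u} [Group G] [Finite G]

/-- The derived series of a group stays at a perfect subgroup. -/
theorem eq_bot_of_perfect {K : Subgroup G} (hK : ⁅K, K⁆ = K) (h : Group.IsSolvable K) : K = ⊥ := by
  obtain ⟨n, hn⟩ := h.solvable
  have htop : ∀ m, (derivedSeries K m).map K.subtype = K := fun m => by
    induction m with
    | zero => rw [derivedSeries_zero, ← MonoidHom.range_eq_map, range_subtype]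
    | succ m ih => rw [derivedSeries_succ, map_commutator, ih, hK]
  rw [← htop n, hn, Subgroup.map_bot]

theorem perfect_map {H : Type*} [Group H] {K : Subgroup G} (hK : ⁅K, K⁆ = K) (f : G →* H) :
    ⁅K.map f, K.map f⁆ = K.map f := by rw [← map_commutator, hK]

/-- A perfect subgroup lies in the kernel of a homomorphism onto a solvable image. -/
theorem le_ker_of_perfect {H : Type*} [Group H] {K : Subgroup G} (hK : ⁅K, K⁆ = K) (f : G →* H)
    (M : Subgroup G) [Group.IsSolvable M] (hKM : K.map f ≤ M.map f) : K ≤ f.ker := by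
  have hM : Group.IsSolvable (M.map f) :=
    Group.isSolvable_of_surjective (f := f.subgroupMap M) (f.subgroupMap_surjective M)
  have h2 : Group.IsSolvable (K.map f) :=
    Group.isSolvable_of_isSolvable_injective (f := inclusion hKM) (inclusion_injective hKM)
  haveI : Finite f.range := Finite.of_surjective f.rangeRestrict f.rangeRestrict_surjective
  have h3 : ⁅K.map f.rangeRestrict, K.map f.rangeRestrict⁆ = K.map f.rangeRestrict := perfect_map hK _
  have e : (K.map f.rangeRestrict).map f.range.subtype = K.map f := by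
    rw [Subgroup.map_map, MonoidHom.subtype_comp_rangeRestrict]
  have h4 : Group.IsSolvable (K.map f.rangeRestrict) :=
    Group.isSolvable_of_isSolvable_injective
      (f := ((MulEquiv.subgroupCongr e).toMonoidHom.comp
        ((K.map f.rangeRestrict).equivMapOfInjective f.range.subtype f.range.subtype_injective).toMonoidHom))
      ((MulEquiv.subgroupCongr e).injective.comp (MulEquiv.injective _))
  have h5 := eq_bot_of_perfect h3 h4
  intro k hk
  have : f.rangeRestrict k ∈ K.map f.rangeRestrict := mem_map_of_mem _ hk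
  rw [h5, mem_bot] at this
  exact congrArg Subtype.val this

/-- The Frattini argument. -/
theorem le_of_normalizer_solvable {H K : Subgroup G} [H.Normal] (hK : ⁅K, K⁆ = K) {p : ℕ}
    [Fact p.Prime] (P : Sylow p H)
    (hsol : Group.IsSolvable (normalizer (((P : Subgroup H).map H.subtype : Subgroup G) : Set G))) :
    K ≤ H := by
  rw [← QuotientGroup.ker_mk' H]
  refine le_ker_of_perfect hK (QuotientGroup.mk' H)
    (normalizer (((P : Subgroup H).map H.subtype : Subgroup G) : Set G)) ?_
  refine (map_mono (show K ≤ ⊤ from le_top)).trans ?_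
  rw [← Sylow.normalizer_sup_eq_top P, Subgroup.map_sup]
  refine sup_le le_rfl ?_
  rw [QuotientGroup.map_mk'_self]
  exact bot_le

variable {V : Type*} [AddCommGroup V] [Module (ZMod 2) V] [Finite V]

/-- The centralizer of a subgroup acting irreducibly is cyclic. -/
theorem isCyclic_centralizer [Nontrivial V] (R : G →* Module.End (ZMod 2) V)
    (hR : Function.Injective R) {x : G}
    (hirr : ∀ W : Submodule (ZMod 2) V, (∀ w ∈ W, R x w ∈ W) → W = ⊥ ∨ W = ⊤) :
    IsCyclic (centralizer ({x} : Set G)) :=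
  isCyclic (s := {R x}) (fun W hW => hirr W (hW (R x) rfl)) (R.comp (centralizer ({x} : Set G)).subtype)
    (hR.comp Subtype.val_injective) fun g => by
      rw [Subalgebra.mem_centralizer_iff]
      rintro _ rfl
      change R x * R g.1 = R g.1 * R x
      rw [← map_mul, ← map_mul, mem_centralizer_singleton_iff.1 g.2]

/-- A subgroup containing an irreducible element has a solvable normalizer when it is
commutative. -/
theorem isSolvable_normalizer_of_irreducible [Nontrivial V] (R : G →* Module.End (ZMod 2) V)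
    (hR : Function.Injective R) {Q : Subgroup G} {x : G} (hx : x ∈ Q)
    (hcent : Q ≤ centralizer ({x} : Set G))
    (hirr : ∀ W : Submodule (ZMod 2) V, (∀ w ∈ W, R x w ∈ W) → W = ⊥ ∨ W = ⊤) :
    Group.IsSolvable (normalizer (Q : Set G)) := by
  haveI := isCyclic_centralizer R hR hirr
  haveI : IsCyclic Q := isCyclic_of_injective (inclusion hcent) (inclusion_injective hcent)
  haveI : Group.IsSolvable (MulAut Q) := CfsgLib.FTCons.isSolvable_mulAut_of_isZGroup Q
  have hle : centralizer (Q : Set G) ≤ centralizer ({x} : Set G) :=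
    centralizer_le (Set.singleton_subset_iff.2 hx)
  haveI : Group.IsSolvable (centralizer (Q : Set G)) := by
    haveI : Group.IsSolvable (centralizer ({x} : Set G)) :=
      Group.isSolvable_of_comm fun a b => IsCyclic.isMulCommutative.is_comm.comm a b
    exact Group.isSolvable_of_isSolvable_injective (f := inclusion hle) (inclusion_injective hle)
  exact solvable_of_ker_le_range
    (inclusion (centralizer_le_normalizer (Q : Set G))) Q.normalizerMonoidHom
    (by rw [normalizerMonoidHom_ker, Subgroup.inclusion_range])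

/-- Sylow subgroups of a transitive group for divisors of the orbit length fix no vector. -/
theorem eq_zero_of_sylow_fix (R : G →* Module.End (ZMod 2) V) {H : Subgroup G}
    (htr : ∀ a b : V, a ≠ 0 → b ≠ 0 → ∃ h ∈ H, R h a = b) {p : ℕ} [hp : Fact p.Prime]
    (hdvd : p ∣ Nat.card V - 1) (P : Sylow p H) {v : V}
    (hv : ∀ h ∈ (P : Subgroup H), R (h : G) v = v) : v = 0 := by
  classical
  by_contra hv0
  haveI : Nontrivial V := ⟨⟨v, 0, hv0⟩⟩
  letI : MulAction H {w : V // w ≠ 0} :=
    { smul := fun h w => ⟨R (h : G) w.1, CfsgLib.Recog.TransLinear.ne_zero_apply R _ w.2⟩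
      one_smul := fun w => Subtype.ext (by
        change R ((1 : H) : G) w.1 = w.1
        rw [coe_one, map_one, Module.End.one_apply])
      mul_smul := fun g h w => Subtype.ext (by
        change R ((g * h : H) : G) w.1 = R (g : G) (R (h : G) w.1)
        rw [coe_mul, map_mul, Module.End.mul_apply]) }
  haveI : MulAction.IsPretransitive H {w : V // w ≠ 0} := ⟨fun a b => by
    obtain ⟨h, hh, e⟩ := htr a.1 b.1 a.2 b.2
    exact ⟨⟨h, hh⟩, Subtype.ext e⟩⟩
  have hle : (P : Subgroup H) ≤ MulAction.stabilizer H (⟨v, hv0⟩ : {w : V // w ≠ 0}) :=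
    fun h hh => Subtype.ext (hv h hh)
  have h1 := Subgroup.index_dvd_of_le hle
  rw [MulAction.index_stabilizer_of_transitive] at h1
  have h2 : Nat.card {w : V // w ≠ 0} = Nat.card V - 1 := by
    haveI := Fintype.ofFinite V
    rw [Nat.card_eq_fintype_card, Fintype.card_subtype_compl, Fintype.card_subtype_eq,
      ← Nat.card_eq_fintype_card]
  exact P.not_dvd_index ((hdvd.trans (dvd_of_eq h2.symm)).trans h1)

theorem R_inj' (R : G →* Module.End (ZMod 2) V) (g : G) : Function.Injective (R g) :=
  Function.LeftInverse.injective (g := R g⁻¹) fun v => by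
    rw [← Module.End.mul_apply, ← map_mul, inv_mul_cancel, map_one, Module.End.one_apply]

/-- The submodule fixed by an element. -/
abbrev fixed (R : G →* Module.End (ZMod 2) V) (g : G) : Submodule (ZMod 2) V :=
  LinearMap.ker (R g - 1)

theorem mem_fixed {R : G →* Module.End (ZMod 2) V} {g : G} {v : V} :
    v ∈ fixed R g ↔ R g v = v := by
  rw [LinearMap.mem_ker, LinearMap.sub_apply, Module.End.one_apply, sub_eq_zero]

theorem card_eq_pow (W : Submodule (ZMod 2) V) : Nat.card W = 2 ^ Module.finrank (ZMod 2) W := by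
  rw [Module.natCard_eq_pow_finrank (K := ZMod 2), Nat.card_zmod]

/-- A `p`-group acting on an invariant submodule fixes as many vectors modulo `p`. -/
theorem card_modEq (R : G →* Module.End (ZMod 2) V) {p : ℕ} [Fact p.Prime] {Q : Subgroup G}
    (hQ : IsPGroup p Q) (W : Submodule (ZMod 2) V) (hW : ∀ g ∈ Q, ∀ w ∈ W, R g w ∈ W)
    (F : Submodule (ZMod 2) V) (hF : ∀ v, v ∈ F ↔ v ∈ W ∧ ∀ g ∈ Q, R g v = v) :
    Nat.card W ≡ Nat.card F [MOD p] := by
  letI : MulAction Q W :=
    { smul := fun g w => ⟨R (g : G) w.1, hW g g.2 w.1 w.2⟩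
      one_smul := fun w => Subtype.ext (by
        change R ((1 : Q) : G) w.1 = w.1
        rw [coe_one, map_one, Module.End.one_apply])
      mul_smul := fun g h w => Subtype.ext (by
        change R ((g * h : Q) : G) w.1 = R (g : G) (R (h : G) w.1)
        rw [coe_mul, map_mul, Module.End.mul_apply]) }
  refine (hQ.card_modEq_card_fixedPoints W).trans (congrArg (· % p) (Nat.card_congr
    { toFun := fun w => ⟨w.1.1, (hF _).2 ⟨w.1.2, fun g hg => congrArg Subtype.val (w.2 ⟨g, hg⟩)⟩⟩
      invFun := fun v => ⟨⟨v.1, ((hF _).1 v.2).1⟩, fun g => Subtype.ext (((hF _).1 v.2).2 g g.2)⟩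
      left_inv := fun _ => rfl
      right_inv := fun _ => rfl }))

theorem card_modEq_fixed (R : G →* Module.End (ZMod 2) V) {p : ℕ} [Fact p.Prime] {g : G}
    (hg : orderOf g = p) (W : Submodule (ZMod 2) V) (hW : ∀ w ∈ W, R g w ∈ W) :
    Nat.card W ≡ Nat.card (W ⊓ fixed R g : Submodule (ZMod 2) V) [MOD p] := by
  have hst : ∀ h ∈ zpowers g, ∀ w ∈ W, R h w ∈ W := fun h hh => by
    obtain ⟨n, rfl⟩ := (mem_powers_iff_mem_zpowers.2 hh)
    induction n with
    | zero => intro w hw; simpa using hw
    | succ n ih =>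
      intro w hw
      change R (g ^ (n + 1)) w ∈ W
      rw [pow_succ, map_mul, Module.End.mul_apply]
      exact ih (mem_powers_iff_mem_zpowers.1 ⟨n, rfl⟩) _ (hW w hw)
  refine card_modEq R (Q := zpowers g) ?_ W hst _ fun v => ?_
  · exact IsPGroup.of_card (n := 1) (by rw [Nat.card_zpowers, hg, pow_one])
  · rw [Submodule.mem_inf, mem_fixed]
    refine and_congr_right fun _ => ⟨fun h k hk => ?_, fun h => h g (mem_zpowers g)⟩
    obtain ⟨n, rfl⟩ := mem_powers_iff_mem_zpowers.2 hk
    change R (g ^ n) v = v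
    induction n with
    | zero => simp
    | succ n ih =>
      rw [pow_succ, map_mul, Module.End.mul_apply, h]
      exact ih (mem_powers_iff_mem_zpowers.1 ⟨n, rfl⟩)

/-- In a six dimensional module, the dimensions of fixed spaces. -/
theorem two_pow_modEq {d p : ℕ} (hd : d ≤ 6) (h : 2 ^ 6 ≡ 2 ^ d [MOD p]) :
    (p = 3 → d % 2 = 0) ∧ (p = 5 → d = 2 ∨ d = 6) ∧ (p = 7 → d % 3 = 0) ∧
      (p = 31 → d = 1 ∨ d = 6) ∧ (p = 9 → d % 6 = 0) := by
  unfold Nat.ModEq at h
  refine ⟨?_, ?_, ?_, ?_, ?_⟩ <;> rintro rfl <;> interval_cases d <;> simp_all (config := { decide := true })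

theorem card_dvd_six (R : G →* Module.End (ZMod 2) V) (hR : Function.Injective R)
    (h6 : Module.finrank (ZMod 2) V = 6) : Nat.card G ∣ 20158709760 := by
  let b := Module.finBasisOfFinrankEq (ZMod 2) V h6
  let e : Module.End (ZMod 2) V ≃* Matrix (Fin 6) (Fin 6) (ZMod 2) :=
    (LinearMap.toMatrixAlgEquiv b).toMulEquiv
  let f : G →* GL (Fin 6) (ZMod 2) := (Units.mapEquiv e).toMonoidHom.comp R.toHomUnits
  have hf : Function.Injective f := fun a c h => hR (by
    have h1 : R.toHomUnits a = R.toHomUnits c := (Units.mapEquiv e).injective h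
    exact congrArg Units.val h1)
  have := Subgroup.card_dvd_of_injective f hf
  rw [Matrix.card_GL_field, ZMod.card] at this
  simpa [Fin.prod_univ_succ] using this

theorem finrank_eq_six (hV : Nat.card V = 2 ^ 6) : Module.finrank (ZMod 2) V = 6 := by
  rw [Module.natCard_eq_pow_finrank (K := ZMod 2), Nat.card_zmod] at hV
  exact Nat.pow_right_injective le_rfl hV

theorem seven_modEq {p i j : ℕ} (hp : p = 5 ∨ p = 31) (hij : i ≤ j) (hj : j ≤ 2)
    (h : 7 ^ j ≡ 7 ^ i [MOD p]) : i = j := by
  unfold Nat.ModEq at h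
  rcases hp with rfl | rfl <;> interval_cases j <;> interval_cases i <;>
    simp_all (config := { decide := true })

theorem three_modEq {i j : ℕ} (hij : i ≤ j) (hj : j ≤ 4) (h : 3 ^ j ≡ 3 ^ i [MOD 7]) : i = j := by
  unfold Nat.ModEq at h
  interval_cases j <;> interval_cases i <;> simp_all (config := { decide := true })

/-- An element of order dividing `5 · 7 · 31` normalizing a small group centralizes it. -/
theorem centralizes_of_coprime_orbits {Q : Subgroup G} {f : G} {p r a : ℕ} [hp : Fact p.Prime]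
    (hr : r.Prime) (hQ : Nat.card Q = r ^ a) (hf : orderOf f = p)
    (hfn : f ∈ normalizer (Q : Set G))
    (hmod : ∀ i j : ℕ, i ≤ j → j ≤ a → r ^ j ≡ r ^ i [MOD p] → i = j) :
    ∀ x ∈ Q, f * x = x * f := by
  have hF : IsPGroup p (zpowers f) := IsPGroup.of_card (n := 1) (by rw [Nat.card_zpowers, hf, pow_one])
  have hFn : zpowers f ≤ normalizer (Q : Set G) := zpowers_le.2 hfn
  letI : MulAction (zpowers f) Q :=
    { smul := fun g x => ⟨(g : G) * x * (g : G)⁻¹, (mem_normalizer_iff.1 (hFn g.2) x).1 x.2⟩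
      one_smul := fun x => Subtype.ext (by
        change ((1 : zpowers f) : G) * x * ((1 : zpowers f) : G)⁻¹ = x
        simp)
      mul_smul := fun g h x => Subtype.ext (by
        change ((g * h : zpowers f) : G) * x * ((g * h : zpowers f) : G)⁻¹ =
          (g : G) * ((h : G) * x * (h : G)⁻¹) * (g : G)⁻¹
        simp [mul_assoc]) }
  have h1 := hF.card_modEq_card_fixedPoints Q
  set C := Q ⊓ centralizer ({f} : Set G) with hC
  have e : Nat.card (MulAction.fixedPoints (zpowers f) Q) = Nat.card C := Nat.card_congr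
    { toFun := fun x => ⟨x.1.1, x.1.2, mem_centralizer_singleton_iff.2
        ((mul_inv_eq_iff_eq_mul.1 (congrArg Subtype.val (x.2 ⟨f, mem_zpowers f⟩))).symm)⟩
      invFun := fun x => ⟨⟨x.1, x.2.1⟩, fun g => Subtype.ext (by
        change (g : G) * x.1 * (g : G)⁻¹ = x.1
        have : (g : G) ∈ centralizer ({(x : G)} : Set G) := zpowers_le.2
          (mem_centralizer_singleton_iff.2 (mem_centralizer_singleton_iff.1 x.2.2).symm) g.2
        rw [mem_centralizer_singleton_iff.1 this, mul_inv_cancel_right])⟩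
      left_inv := fun _ => rfl
      right_inv := fun _ => rfl }
  rw [e, hQ] at h1
  obtain ⟨i, hi, hCi⟩ := (Nat.dvd_prime_pow hr).1 (hQ ▸ card_dvd_of_le (inf_le_left : C ≤ Q))
  rw [hCi] at h1
  have hia := hmod i a hi le_rfl h1
  have hCQ : C = Q := eq_of_le_of_card_ge inf_le_left (by rw [hQ, hCi, hia])
  intro x hx
  exact (mem_centralizer_singleton_iff.1 ((hCQ.symm ▸ hx : x ∈ C)).2).symm

/-- Some element of order three in a noncyclic elementary group fixes a non-zero vector. -/
theorem exists_fixed_of_plane (R : G →* Module.End (ZMod 2) V) [Nontrivial V] {y z : G}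
    (hy : y ^ 3 = 1) (hz : z ^ 3 = 1) (hc : y * z = z * y) :
    ∃ v : V, v ≠ 0 ∧ (R y v = v ∨ R z v = v ∨ R (y * z) v = v ∨ R (y ^ 2 * z) v = v) := by
  by_contra hcon
  push Not at hcon
  have two : (2 : Module.End (ZMod 2) V) = 0 := LinearMap.ext fun v => by
    rw [show (2 : Module.End (ZMod 2) V) = 1 + 1 from one_add_one_eq_two.symm, LinearMap.add_apply,
      Module.End.one_apply, LinearMap.zero_apply, ← two_smul (ZMod 2) v,
      show (2 : ZMod 2) = 0 from rfl, zero_smul]
  have hsum : ∀ g : G, g ^ 3 = 1 → (∀ v : V, v ≠ 0 → R g v ≠ v) → 1 + R g + R g ^ 2 = 0 := by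
    intro g hg hfix
    refine LinearMap.ext fun v => ?_
    by_contra hne
    refine hfix _ hne ?_
    rw [← Module.End.mul_apply]
    congr 1
    calc R g * (1 + R g + R g ^ 2) = R g + R g ^ 2 + R g ^ 3 := by noncomm_ring
      _ = _ := by rw [← map_pow R g 3, hg, map_one]; abel
  obtain ⟨v, hv⟩ := exists_ne (0 : V)
  set A := R y with hA
  set B := R z with hB
  have a := hsum y hy fun v hv => (hcon v hv).1
  have b := hsum z hz fun v hv => (hcon v hv).2.1
  have c := hsum (y * z) (by rw [(show Commute y z from hc).mul_pow, hy, hz, one_mul]) fun v hv =>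
    (hcon v hv).2.2.1
  have hAB : Commute A B := (show Commute y z from hc).map R
  have d := hsum (y ^ 2 * z) (by
    rw [((show Commute y z from hc).pow_left 2).mul_pow, hz, mul_one, ← pow_mul,
      show 2 * 3 = 3 * 2 from rfl, pow_mul, hy, one_pow]) fun v hv => (hcon v hv).2.2.2
  rw [map_mul, ← hA, ← hB, hAB.mul_pow] at c
  rw [map_mul, map_pow, ← hA, ← hB, (hAB.pow_left 2).mul_pow, ← pow_mul,
    show 2 * 2 = 3 + 1 from rfl, pow_succ A 3] at d
  rw [← map_pow R y 3, hy, map_one, one_mul] at d
  -- adding the two relations leaves `1 = 0`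
  have e : (1 : Module.End (ZMod 2) V) = 0 := by
    have h2 : ∀ x : Module.End (ZMod 2) V, x + x = 0 := fun x => by rw [← two_mul, two, zero_mul]
    have key : (1 + A + A ^ 2) + (1 + B + B ^ 2) + (1 + A * B + A ^ 2 * B ^ 2) +
        (1 + A ^ 2 * B + A * B ^ 2) + (1 + A + A ^ 2) * (1 + B + B ^ 2) =
        1 + ((1 + 1 + A + A ^ 2 + B + B ^ 2 + A * B + A * B ^ 2 + A ^ 2 * B + A ^ 2 * B ^ 2) +
          (1 + 1 + A + A ^ 2 + B + B ^ 2 + A * B + A * B ^ 2 + A ^ 2 * B + A ^ 2 * B ^ 2)) := by
      simp only [add_mul, mul_add, one_mul, mul_one]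
      abel
    rw [h2, add_zero, a, b, c, d, add_zero, add_zero, add_zero, zero_mul, add_zero] at key
    exact key.symm
  exact hv (by simpa using LinearMap.congr_fun e v)

/-- An element of order nine fixes as many vectors of an invariant subspace modulo nine as its
cube. -/
theorem card_modEq_nine (R : G →* Module.End (ZMod 2) V) {g : G} (hg : orderOf g = 9)
    (W : Submodule (ZMod 2) V) (hW : ∀ w ∈ W, R g w ∈ W) :
    Nat.card W ≡ Nat.card (W ⊓ fixed R (g ^ 3) : Submodule (ZMod 2) V) [MOD 9] := by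
  classical
  have hpow : ∀ n : ℕ, ∀ w ∈ W, R (g ^ n) w ∈ W := fun n => by
    induction n with
    | zero => intro w hw; simpa using hw
    | succ n ih =>
      intro w hw
      rw [pow_succ', map_mul, Module.End.mul_apply]
      exact hW _ (ih w hw)
  have hcube : ∀ n : ℕ, ∀ w : V, R (g ^ 3) w ≠ w → R (g ^ 3) (R (g ^ n) w) ≠ R (g ^ n) w := by
    intro n w hw h
    refine hw (R_inj' R (g ^ n) ?_)
    rw [← Module.End.mul_apply, ← map_mul, ← pow_add, add_comm, pow_add, map_mul, Module.End.mul_apply, h]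
  letI : MulAction (zpowers g) {w : W // R (g ^ 3) w.1 ≠ w.1} :=
    { smul := fun k w => ⟨⟨R (k : G) w.1.1, by
          obtain ⟨n, hn⟩ := mem_powers_iff_mem_zpowers.2 k.2
          rw [← hn]; exact hpow n _ w.1.2⟩, by
          obtain ⟨n, hn⟩ := mem_powers_iff_mem_zpowers.2 k.2
          change R (g ^ 3) (R (k : G) w.1.1) ≠ R (k : G) w.1.1
          rw [← hn]; exact hcube n _ w.2⟩
      one_smul := fun w => Subtype.ext (Subtype.ext (by
        change R ((1 : zpowers g) : G) w.1.1 = w.1.1
        rw [coe_one, map_one, Module.End.one_apply]))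
      mul_smul := fun k l w => Subtype.ext (Subtype.ext (by
        change R ((k * l : zpowers g) : G) w.1.1 = R (k : G) (R (l : G) w.1.1)
        rw [coe_mul, map_mul, Module.End.mul_apply])) }
  have hfree : ∀ w : {w : W // R (g ^ 3) w.1 ≠ w.1}, MulAction.stabilizer (zpowers g) w = ⊥ := by
    intro w
    rw [eq_bot_iff]
    intro k hk
    obtain ⟨n, hn⟩ := mem_powers_iff_mem_zpowers.2 k.2
    change g ^ n = _ at hn
    have h1 : R (g ^ n) w.1.1 = w.1.1 := by
      rw [hn]; exact congrArg Subtype.val (congrArg Subtype.val hk)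
    have h9 : 9 ∣ n := by
      by_contra hnk
      refine w.2 ?_
      have hfix : ∀ m : ℕ, R (g ^ (n * m)) w.1.1 = w.1.1 := fun m => by
        induction m with
        | zero => simp
        | succ m ih => rw [Nat.mul_succ, pow_add, map_mul, Module.End.mul_apply, h1, ih]
      obtain ⟨m, hm⟩ : ∃ m, n * m % 9 = 3 := by
        rcases (show n % 9 = 1 ∨ n % 9 = 2 ∨ n % 9 = 3 ∨ n % 9 = 4 ∨ n % 9 = 5 ∨ n % 9 = 6 ∨
          n % 9 = 7 ∨ n % 9 = 8 by omega) with h | h | h | h | h | h | h | h
        · exact ⟨3, by rw [Nat.mul_mod, h]⟩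
        · exact ⟨6, by rw [Nat.mul_mod, h]⟩
        · exact ⟨1, by rw [Nat.mul_mod, h]⟩
        · exact ⟨3, by rw [Nat.mul_mod, h]⟩
        · exact ⟨6, by rw [Nat.mul_mod, h]⟩
        · exact ⟨2, by rw [Nat.mul_mod, h]⟩
        · exact ⟨3, by rw [Nat.mul_mod, h]⟩
        · exact ⟨6, by rw [Nat.mul_mod, h]⟩
      have h2 := hfix m
      rwa [← pow_mod_orderOf, hg, hm] at h2
    refine mem_bot.2 (Subtype.ext ?_)
    rw [← hn, orderOf_dvd_iff_pow_eq_one.1 (hg ▸ h9)]
    rfl
  have hdvd : 9 ∣ Nat.card {w : W // R (g ^ 3) w.1 ≠ w.1} := by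
    rw [Nat.card_congr (MulAction.selfEquivSigmaOrbits (zpowers g) {w : W // R (g ^ 3) w.1 ≠ w.1})]
    haveI := Fintype.ofFinite
      (MulAction.orbitRel.Quotient (zpowers g) {w : W // R (g ^ 3) w.1 ≠ w.1})
    rw [Nat.card_sigma]
    refine Finset.dvd_sum fun o _ => ?_
    rw [Nat.card_congr (MulAction.orbitEquivQuotientStabilizer (zpowers g) o.out),
      hfree, ← index_eq_card, index_bot, Nat.card_zpowers, hg]
  have hsplit : Nat.card W = Nat.card {w : W // R (g ^ 3) w.1 = w.1} +
      Nat.card {w : W // R (g ^ 3) w.1 ≠ w.1} := by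
    rw [← Nat.card_congr (Equiv.sumCompl fun w : W => R (g ^ 3) w.1 = w.1), Nat.card_sum]
  have e : Nat.card {w : W // R (g ^ 3) w.1 = w.1} =
      Nat.card (W ⊓ fixed R (g ^ 3) : Submodule (ZMod 2) V) := Nat.card_congr
    { toFun := fun w => ⟨w.1.1, Submodule.mem_inf.2 ⟨w.1.2, mem_fixed.2 w.2⟩⟩
      invFun := fun v => ⟨⟨v.1, (Submodule.mem_inf.1 v.2).1⟩, mem_fixed.1 (Submodule.mem_inf.1 v.2).2⟩
      left_inv := fun _ => rfl
      right_inv := fun _ => rfl }
  rw [hsplit, e]
  obtain ⟨c, hc⟩ := hdvd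
  unfold Nat.ModEq
  omega

set_option maxHeartbeats 1000000 in
/-- The six dimensional case. -/
theorem le_of_transitive_six [Nontrivial V] (R : G →* Module.End (ZMod 2) V)
    (hR : Function.Injective R) (h6 : Nat.card V = 2 ^ 6) {H K : Subgroup G} [H.Normal]
    (hK : ⁅K, K⁆ = K) (htr : ∀ a b : V, a ≠ 0 → b ≠ 0 → ∃ h ∈ H, R h a = b) : K ≤ H := by
  classical
  haveI := Fact.mk Nat.prime_three
  haveI : Fact (Nat.Prime 7) := ⟨by norm_num⟩
  have hdvdG := card_dvd_six R hR (finrank_eq_six h6)
  have h63 : 63 ∣ Nat.card H := by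
    have := CfsgLib.Recog.TransLinear.sub_one_dvd_card (R.comp H.subtype) fun a b ha hb => by
      obtain ⟨h, hh, e⟩ := htr a b ha hb
      exact ⟨⟨h, hh⟩, e⟩
    rw [h6] at this
    exact this
  obtain ⟨P₀⟩ : Nonempty (Sylow 3 H) := inferInstance
  obtain ⟨Q₀⟩ : Nonempty (Sylow 7 H) := inferInstance
  set P := (P₀ : Subgroup H).map H.subtype with hP
  set Q := (Q₀ : Subgroup H).map H.subtype with hQ
  have hPp : IsPGroup 3 P := P₀.isPGroup'.map _
  have hQp : IsPGroup 7 Q := Q₀.isPGroup'.map _
  obtain ⟨a, hPa⟩ := IsPGroup.iff_card.1 hPp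
  obtain ⟨b, hQb⟩ := IsPGroup.iff_card.1 hQp
  have ha4 : a ≤ 4 := by
    by_contra h
    have : 3 ^ 5 ∣ 20158709760 := ((pow_dvd_pow 3 (by omega : 5 ≤ a)).trans (hPa ▸ P.card_subgroup_dvd_card)).trans hdvdG
    norm_num at this
  have hb2 : b ≤ 2 := by
    by_contra h
    have : 7 ^ 3 ∣ 20158709760 := ((pow_dvd_pow 7 (by omega : 3 ≤ b)).trans (hQb ▸ Q.card_subgroup_dvd_card)).trans hdvdG
    norm_num at this
  have hPfix : ∀ v : V, (∀ g ∈ P, R g v = v) → v = 0 := fun v hv =>
    eq_zero_of_sylow_fix R htr (by rw [h6]; norm_num) P₀ fun h hh => hv _ (mem_map_of_mem _ hh)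
  have hQfix : ∀ v : V, (∀ g ∈ Q, R g v = v) → v = 0 := fun v hv =>
    eq_zero_of_sylow_fix R htr (by rw [h6]; norm_num) Q₀ fun h hh => hv _ (mem_map_of_mem _ hh)
  have hfr : ∀ W : Submodule (ZMod 2) V, Module.finrank (ZMod 2) W ≤ 6 := fun W =>
    (Submodule.finrank_le W).trans (finrank_eq_six h6).le
  have htopc : Nat.card (⊤ : Submodule (ZMod 2) V) = 2 ^ 6 := by
    rw [card_eq_pow, finrank_top, finrank_eq_six h6]
  -- fixed spaces
  have hfixmod : ∀ (p : ℕ) [Fact p.Prime] (g : G), orderOf g = p →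
      2 ^ 6 ≡ 2 ^ Module.finrank (ZMod 2) (fixed R g) [MOD p] := fun p _ g hg => by
    have := card_modEq_fixed R hg ⊤ fun _ _ => Submodule.mem_top
    rwa [htopc, top_inf_eq, card_eq_pow] at this
  have hfull : ∀ g : G, Module.finrank (ZMod 2) (fixed R g) = 6 → g = 1 := fun g hg => by
    have ht : fixed R g = ⊤ := Submodule.eq_top_of_finrank_eq (hg.trans (finrank_eq_six h6).symm)
    refine hR (LinearMap.ext fun v => ?_)
    rw [map_one, Module.End.one_apply]
    exact mem_fixed.1 (ht ▸ Submodule.mem_top)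
  have hpres : ∀ {g h : G}, g * h = h * g → ∀ v ∈ fixed R g, R h v ∈ fixed R g := fun {g h} hc v hv => by
    rw [mem_fixed] at hv ⊢
    rw [← Module.End.mul_apply, ← map_mul, hc, map_mul, Module.End.mul_apply, hv]
  by_cases hcyc : IsCyclic P
  · -- a cyclic Sylow subgroup of order at least nine is irreducible
    refine le_of_normalizer_solvable hK P₀ ?_
    obtain ⟨z, hz⟩ := hcyc.exists_generator
    have h9 : 9 ∣ Nat.card P := by
      have h2 : 9 ∣ Nat.card H := (by norm_num : 9 ∣ 63).trans h63
      rw [hP, card_map_of_injective H.subtype_injective, show (9 : ℕ) = 3 ^ 2 from rfl] at *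
      exact P₀.pow_dvd_card_of_pow_dvd_card h2
    set x : P := z ^ (Nat.card P / 9)
    have hzord : orderOf z = Nat.card P := orderOf_eq_card_of_forall_mem_zpowers hz
    have hx9 : orderOf x = 9 := by
      have h1 : (Nat.card P / 9) ∣ Nat.card P := Nat.div_dvd_of_dvd h9
      rw [orderOf_pow_of_dvd (Nat.ne_of_gt (Nat.div_pos (Nat.le_of_dvd Nat.card_pos h9) (by norm_num)))
        (hzord ▸ h1), hzord, Nat.div_div_self h9 Nat.card_pos.ne']
    set g : G := (x : G) with hg
    have hg9 : orderOf g = 9 := by rw [hg, orderOf_coe, hx9]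
    have hPc : P ≤ centralizer ({g} : Set G) := fun h hh => mem_centralizer_singleton_iff.2 (by
      have : IsMulCommutative P := IsCyclic.isMulCommutative
      exact congrArg Subtype.val (this.is_comm.comm ⟨h, hh⟩ x))
    refine isSolvable_normalizer_of_irreducible R hR x.2 hPc fun W hW => ?_
    have h3 : orderOf (g ^ 3) = 3 := by rw [orderOf_pow' _ (by norm_num), hg9]; norm_num
    -- the cube fixes nothing
    have hC0 : fixed R (g ^ 3) = ⊥ := by
      have h1 := card_modEq_nine R hg9 ⊤ fun _ _ => Submodule.mem_top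
      rw [htopc, top_inf_eq, card_eq_pow] at h1
      have hd := (two_pow_modEq (hfr _) h1).2.2.2.2 rfl
      have hne6 : Module.finrank (ZMod 2) (fixed R (g ^ 3)) ≠ 6 := fun h => by
        rw [hfull _ h, orderOf_one] at h3
        omega
      exact Submodule.finrank_eq_zero.1 (by have := hfr (fixed R (g ^ 3)); omega)
    have h1 := card_modEq_nine R hg9 W hW
    rw [hC0, inf_bot_eq, card_eq_pow, card_eq_pow, finrank_bot] at h1
    unfold Nat.ModEq at h1
    have := hfr W
    rcases (show Module.finrank (ZMod 2) W = 0 ∨ Module.finrank (ZMod 2) W = 1 ∨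
      Module.finrank (ZMod 2) W = 2 ∨ Module.finrank (ZMod 2) W = 3 ∨
      Module.finrank (ZMod 2) W = 4 ∨ Module.finrank (ZMod 2) W = 5 ∨
      Module.finrank (ZMod 2) W = 6 by omega) with h | h | h | h | h | h | h
    · exact Or.inl (Submodule.finrank_eq_zero.1 h)
    all_goals first
      | exact Or.inr (Submodule.eq_top_of_finrank_eq (h.trans (finrank_eq_six h6).symm))
      | (rw [h] at h1; norm_num at h1)
  -- otherwise the quotient has no element of order five, seven or thirty-one
  have h5 : ∀ (p : ℕ), p = 5 ∨ p = 31 → ∀ f ∈ normalizer (Q : Set G), orderOf f ≠ p := by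
    intro p hp f hf hord
    haveI : Fact p.Prime := ⟨by rcases hp with rfl | rfl <;> norm_num⟩
    have hcen := centralizes_of_coprime_orbits (by norm_num : Nat.Prime 7) hQb hord hf
      (fun i j hij hj h => seven_modEq hp hij (hj.trans hb2) h)
    set C := fixed R f
    obtain ⟨-, h5', -, h31, -⟩ := two_pow_modEq (hfr C) (hfixmod p f hord)
    have hd : Module.finrank (ZMod 2) C = 1 ∨ Module.finrank (ZMod 2) C = 2 := by
      have hne6 : Module.finrank (ZMod 2) C ≠ 6 := fun h => by
        rw [hfull _ h, orderOf_one] at hord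
        rcases hp with rfl | rfl <;> omega
      rcases hp with rfl | rfl
      · exact Or.inr ((h5' rfl).resolve_right hne6)
      · exact Or.inl ((h31 rfl).resolve_right hne6)
    let F : Submodule (ZMod 2) V := ⊥
    have h1 := card_modEq R hQp C (fun g hg w hw => hpres (hcen g hg) w hw) F fun v =>
      ⟨fun h => by rw [Submodule.mem_bot] at h; subst h; exact ⟨zero_mem _, fun g _ => map_zero _⟩,
        fun h => (Submodule.mem_bot _).2 (hQfix v h.2)⟩
    rw [card_eq_pow, card_eq_pow, finrank_bot] at h1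
    unfold Nat.ModEq at h1
    rcases hd with h | h <;> rw [h] at h1 <;> norm_num at h1
  have h7 : ∀ f ∈ normalizer (P : Set G), orderOf f ≠ 7 := by
    intro f hf hord
    have hcen := centralizes_of_coprime_orbits Nat.prime_three hPa hord hf
      (fun i j hij hj h => three_modEq hij (hj.trans ha4) h)
    -- two independent elements of order three
    haveI : Nontrivial P := by
      rw [← Finite.one_lt_card_iff_nontrivial, hPa]
      refine Nat.one_lt_pow (fun h0 => hcyc ?_) (by norm_num)
      haveI : Subsingleton P := (Nat.card_eq_one_iff_unique.1 (by rw [hPa, h0, pow_zero])).1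
      infer_instance
    haveI : Nontrivial (center P) := hPp.center_nontrivial
    obtain ⟨z, hz⟩ := exists_prime_orderOf_dvd_card' 3 (G := center P) (by
      obtain ⟨c, hc⟩ := IsPGroup.iff_card.1 (hPp.to_subgroup (center P))
      rw [hc]
      refine dvd_pow_self 3 fun h0 => ?_
      have := Finite.one_lt_card (α := center P)
      rw [hc, h0] at this
      omega)
    obtain ⟨y, hy, hyz⟩ : ∃ y : P, orderOf y = 3 ∧ y ∉ zpowers (z : P) := by
      by_contra h
      push Not at h
      refine hcyc ((CfsgLib.PGroups.isCyclic_or_quaternion_of_unique hPp (z := (z : P))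
        (by rw [← hz, ← orderOf_coe, pow_orderOf_eq_one]) fun u hu => ?_).resolve_right
        fun h2 => absurd h2.1 (by norm_num))
      rcases (Nat.dvd_prime Nat.prime_three).1 (orderOf_dvd_of_pow_eq_one hu) with h1 | h1
      · rw [orderOf_eq_one_iff.1 h1]; exact one_mem _
      · exact h u h1
    have hz3 : ((z : P) : G) ^ 3 = 1 := by rw [← hz, ← orderOf_coe, ← orderOf_coe, pow_orderOf_eq_one]
    have hy3 : (y : G) ^ 3 = 1 := by rw [← hy, ← orderOf_coe, pow_orderOf_eq_one]
    have hyzc : (y : G) * (z : P) = (z : P) * y :=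
      congrArg Subtype.val (mem_center_iff.1 z.2 y)
    obtain ⟨v, hv, hv'⟩ := exists_fixed_of_plane R hy3 hz3 hyzc
    have hv3 : ∃ w ∈ P, orderOf w = 3 ∧ R w v = v := by
      have hne1 : ∀ w : P, w ≠ 1 → (w : G) ^ 3 = 1 → orderOf (w : G) = 3 := fun w hw h3 =>
        orderOf_eq_prime h3 fun h => hw (Subtype.ext h)
      rcases hv' with h | h | h | h
      · exact ⟨y, y.2, by rw [orderOf_coe, hy], h⟩
      · exact ⟨_, (z : P).2, by rw [orderOf_coe, orderOf_coe, hz], h⟩
      · refine ⟨((y * z : P) : G), (y * z : P).2, hne1 _ (fun h1 => hyz ?_) ?_, h⟩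
        · rw [mul_eq_one_iff_eq_inv.1 h1]; exact inv_mem (mem_zpowers _)
        · rw [coe_mul, (show Commute (y : G) (z : P) from hyzc).mul_pow, hy3, hz3, one_mul]
      · refine ⟨((y ^ 2 * z : P) : G), (y ^ 2 * z : P).2, hne1 _ (fun h1 => hyz ?_) ?_, h⟩
        · have h3 : y = (z : P) := by
            calc y = y * (y ^ 2 * z) := by rw [h1, mul_one]
              _ = y ^ 3 * z := by rw [← mul_assoc, ← pow_succ']
              _ = z := by rw [← hy, pow_orderOf_eq_one, one_mul]
          exact h3 ▸ mem_zpowers _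
        · rw [coe_mul, coe_pow, ((show Commute (y : G) (z : P) from hyzc).pow_left 2).mul_pow, hz3,
            mul_one, ← pow_mul, show 2 * 3 = 3 * 2 from rfl, pow_mul, hy3, one_pow]
    obtain ⟨w, hwP, hw3, hwv⟩ := hv3
    set C := fixed R w
    have hd := (two_pow_modEq (hfr C) (hfixmod 3 w hw3)).1 rfl
    have hfw : w * f = f * w := (hcen w hwP).symm
    have h1 := card_modEq_fixed R hord C fun u hu => hpres hfw u hu
    have hne : Module.finrank (ZMod 2) C ≠ 0 := fun h => hv
      ((Submodule.mem_bot (R := ZMod 2)).1 (Submodule.finrank_eq_zero.1 h ▸ mem_fixed.2 hwv))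
    have hne6 : Module.finrank (ZMod 2) C ≠ 6 := fun h => by
      rw [hfull _ h, orderOf_one] at hw3
      omega
    rw [card_eq_pow, card_eq_pow] at h1
    set j := Module.finrank (ZMod 2) (C ⊓ fixed R f : Submodule (ZMod 2) V) with hj
    have hjpos : j ≠ 0 := fun h0 => by
      rw [h0] at h1
      unfold Nat.ModEq at h1
      rcases (show Module.finrank (ZMod 2) C = 2 ∨ Module.finrank (ZMod 2) C = 4 by
        have := hfr C; omega) with h | h <;> rw [h] at h1 <;> norm_num at h1
    set D := fixed R f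
    obtain ⟨-, -, h7', -, -⟩ := two_pow_modEq (hfr D) (hfixmod 7 f hord)
    have hD6 : Module.finrank (ZMod 2) D ≠ 6 := fun h => by
      rw [hfull _ h, orderOf_one] at hord
      omega
    have hD0 : Module.finrank (ZMod 2) D ≠ 0 := fun h => hjpos (Nat.le_zero.1
      (hj ▸ h ▸ Submodule.finrank_mono inf_le_right))
    have hD3 : Module.finrank (ZMod 2) D = 3 := by
      have := h7' rfl
      have := hfr D
      omega
    let F : Submodule (ZMod 2) V := ⊥
    have h2 := card_modEq R hPp D (fun g hg w hw => hpres (hcen g hg) w hw) F fun v =>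
      ⟨fun h => by rw [Submodule.mem_bot] at h; subst h; exact ⟨zero_mem _, fun g _ => map_zero _⟩,
        fun h => (Submodule.mem_bot _).2 (hPfix v h.2)⟩
    rw [card_eq_pow, card_eq_pow, finrank_bot, hD3] at h2
    unfold Nat.ModEq at h2
    norm_num at h2
  -- hence only two primes divide the quotient
  have hidx : ∀ (p : ℕ) [Fact p.Prime] (P' : Sylow p H),
      H.index ∣ Nat.card (normalizer (((P' : Subgroup H).map H.subtype : Subgroup G) : Set G)) := by
    intro p _ P'
    set N := normalizer (((P' : Subgroup H).map H.subtype : Subgroup G) : Set G)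
    have hsurj : Function.Surjective ((QuotientGroup.mk' H).comp N.subtype) := by
      intro q
      obtain ⟨g, rfl⟩ := QuotientGroup.mk'_surjective H q
      obtain ⟨n, hn, h, hh, rfl⟩ := mem_sup_of_normal_right.1
        (Sylow.normalizer_sup_eq_top P' ▸ mem_top g : g ∈ N ⊔ H)
      refine ⟨⟨n, hn⟩, ?_⟩
      rw [MonoidHom.comp_apply, coe_subtype, map_mul,
        show QuotientGroup.mk' H h = 1 from (QuotientGroup.eq_one_iff h).2 hh, mul_one]
    exact index_eq_card H ▸ card_dvd_of_surjective _ hsurj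
  have hprimes : (Nat.card (G ⧸ H)).primeFactors ⊆ {2, 3} := by
    intro p hp
    obtain ⟨hpp, hpd, -⟩ := Nat.mem_primeFactors.1 hp
    rw [← index_eq_card] at hpd
    haveI := Fact.mk hpp
    have hle : p ∣ 20158709760 := (hpd.trans (index_dvd_card H)).trans hdvdG
    have hp' : p ∈ Nat.primeFactorsList 20158709760 :=
      (Nat.mem_primeFactorsList (by norm_num)).2 ⟨hpp, hle⟩
    have hlist : p = 2 ∨ p = 3 ∨ p = 5 ∨ p = 7 ∨ p = 31 := by
      rw [show 20158709760 = 2 ^ 15 * (3 ^ 4 * (5 * (7 ^ 2 * 31))) by norm_num] at hle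
      rcases hpp.dvd_mul.1 hle with h | h
      · exact Or.inl ((Nat.prime_dvd_prime_iff_eq hpp Nat.prime_two).1 (hpp.dvd_of_dvd_pow h))
      rcases hpp.dvd_mul.1 h with h | h
      · exact Or.inr (Or.inl ((Nat.prime_dvd_prime_iff_eq hpp Nat.prime_three).1 (hpp.dvd_of_dvd_pow h)))
      rcases hpp.dvd_mul.1 h with h | h
      · exact Or.inr (Or.inr (Or.inl ((Nat.prime_dvd_prime_iff_eq hpp Nat.prime_five).1 h)))
      rcases hpp.dvd_mul.1 h with h | h
      · exact Or.inr (Or.inr (Or.inr (Or.inl ((Nat.prime_dvd_prime_iff_eq hpp (by norm_num)).1 (hpp.dvd_of_dvd_pow h)))))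
      · exact Or.inr (Or.inr (Or.inr (Or.inr ((Nat.prime_dvd_prime_iff_eq hpp (by norm_num)).1 h))))
    simp only [Finset.mem_insert, Finset.mem_singleton]
    rcases hlist with h | h | h | h | h
    · exact Or.inl h
    · exact Or.inr h
    · obtain ⟨f, hf⟩ := exists_prime_orderOf_dvd_card' p (hpd.trans (hidx 7 Q₀))
      exact absurd (by rw [orderOf_coe, hf]) (h5 p (Or.inl h) f f.2)
    · obtain ⟨f, hf⟩ := exists_prime_orderOf_dvd_card' p (hpd.trans (hidx 3 P₀))
      exact absurd (by rw [orderOf_coe, hf, h]) (h7 f f.2)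
    · obtain ⟨f, hf⟩ := exists_prime_orderOf_dvd_card' p (hpd.trans (hidx 7 Q₀))
      exact absurd (by rw [orderOf_coe, hf]) (h5 p (Or.inr h) f f.2)
  haveI : Group.IsSolvable (G ⧸ H) :=
    CfsgLib.Recog.EPPOTwo.isSolvable_of_card_primeFactors_le_two
      ((Finset.card_le_card hprimes).trans Finset.card_le_two)
  have hmap : K.map (QuotientGroup.mk' H) = ⊥ :=
    eq_bot_of_perfect (perfect_map hK _) inferInstance
  rw [Subgroup.map_eq_bot_iff, QuotientGroup.ker_mk'] at hmap
  exact hmap

/-- The normalizer of a transitive group is a solvable extension of it. -/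
theorem le_of_transitive [Nontrivial V] (R : G →* Module.End (ZMod 2) V) (hR : Function.Injective R)
    {H K : Subgroup G} [H.Normal] (hK : ⁅K, K⁆ = K)
    (htr : ∀ a b : V, a ≠ 0 → b ≠ 0 → ∃ h ∈ H, R h a = b) : K ≤ H := by
  classical
  set n := Module.finrank (ZMod 2) V with hn
  have hV : Nat.card V = 2 ^ n := by rw [Module.natCard_eq_pow_finrank (K := ZMod 2), Nat.card_zmod]
  rcases (show n ≤ 2 ∨ n = 6 ∨ (3 ≤ n ∧ n ≠ 6) by omega) with hsmall | h6 | ⟨hn3, hn6⟩
  · -- at most six transformations
    letI : MulAction G {v : V // v ≠ 0} :=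
      { smul := fun g v => ⟨R g v.1, CfsgLib.Recog.TransLinear.ne_zero_apply R _ v.2⟩
        one_smul := fun v => Subtype.ext (by
          change R 1 v.1 = v.1
          rw [map_one, Module.End.one_apply])
        mul_smul := fun g h v => Subtype.ext (by
          change R (g * h) v.1 = R g (R h v.1)
          rw [map_mul, Module.End.mul_apply]) }
    have hinj : Function.Injective (MulAction.toPermHom G {v : V // v ≠ 0}) := by
      intro g h e
      refine hR (LinearMap.ext fun v => ?_)
      by_cases hv : v = 0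
      · rw [hv, map_zero, map_zero]
      · exact congrArg Subtype.val (DFunLike.congr_fun e (⟨v, hv⟩ : {v : V // v ≠ 0}))
    have h3 : Nat.card {v : V // v ≠ 0} ≤ 3 := by
      haveI := Fintype.ofFinite V
      rw [Nat.card_eq_fintype_card, Fintype.card_subtype_compl, Fintype.card_subtype_eq,
        ← Nat.card_eq_fintype_card, hV]
      have : 2 ^ n ≤ 4 := (Nat.pow_le_pow_right two_pos hsmall).trans (by norm_num)
      omega
    have hG : Nat.card G < 60 := by
      refine lt_of_le_of_lt (Nat.card_le_card_of_injective _ hinj) ?_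
      rw [Nat.card_perm]
      exact lt_of_le_of_lt (Nat.factorial_le h3) (by decide)
    haveI := CfsgLib.Recog.isSolvable_of_card_lt_sixty hG
    rw [eq_bot_of_perfect hK inferInstance]
    exact bot_le
  · exact le_of_transitive_six R hR (by rw [hV, h6]) hK htr
  · obtain ⟨r, hr, ho⟩ := CfsgLib.Recog.ZsigmondyPrime.exists_primitive_prime (a := 2) (n := n)
      le_rfl hn3 fun h => hn6 h.2
    haveI := Fact.mk hr
    obtain ⟨P₀⟩ : Nonempty (Sylow r H) := inferInstance
    refine le_of_normalizer_solvable hK P₀ ?_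
    set P := (P₀ : Subgroup H).map H.subtype with hP
    have hPp : IsPGroup r P := P₀.isPGroup'.map _
    have hrdvd : r ∣ 2 ^ n - 1 := by
      rw [← ZMod.natCast_eq_zero_iff, Nat.cast_sub Nat.one_le_two_pow, Nat.cast_pow, Nat.cast_one,
        Nat.cast_ofNat, sub_eq_zero, ← orderOf_dvd_iff_pow_eq_one]
      exact dvd_of_eq ho
    obtain ⟨v, hv⟩ := exists_ne (0 : V)
    have hPne : Nontrivial P := by
      by_contra h
      rw [not_nontrivial_iff_subsingleton] at h
      refine hv (eq_zero_of_sylow_fix R htr (hV ▸ hrdvd) P₀ fun x hx => ?_)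
      have : (⟨(x : G), mem_map_of_mem H.subtype hx⟩ : P) = 1 := Subsingleton.elim _ _
      rw [show (x : G) = 1 from congrArg Subtype.val this, map_one, Module.End.one_apply]
    haveI : Nontrivial (center P) := hPp.center_nontrivial
    obtain ⟨z, hz⟩ := exists_prime_orderOf_dvd_card' r (G := center P) (by
      obtain ⟨c, hc⟩ := IsPGroup.iff_card.1 (hPp.to_subgroup (center P))
      rw [hc]
      refine dvd_pow_self r fun h0 => ?_
      have := Finite.one_lt_card (α := center P)
      rw [hc, h0, pow_zero] at this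
      omega)
    set x : G := ((z : P) : G) with hx
    have hxo : orderOf x = r := by rw [hx, orderOf_coe, orderOf_coe, hz]
    refine isSolvable_normalizer_of_irreducible R hR (z : P).2 (fun g hg => ?_) fun W hW =>
      CfsgLib.Recog.TransLinear.irreducible_of_primitive hR hV (by omega) ho hxo W hW
    exact mem_centralizer_singleton_iff.2 (congrArg Subtype.val (mem_center_iff.1 z.2 ⟨g, hg⟩))

end CfsgLib.Involutions.OutOmega
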