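import Cfsg.Agent.Lib.Involutions.OutOmega.Perfect
import Cfsg.Agent.Lib.Involutions.OutOmega.Transitive
import Cfsg.Agent.Lib.Involutions.OutSolvable

/-!
Outer automorphisms when the involutions of a Sylow 2-subgroup commute and are all conjugate.
-/

set_option autoImplicit false
set_option linter.style.haveILetI false
set_option linter.unusedSectionVars false

namespace CfsgLib.Involutions.OutOmega

open Cfsg Subgroup
open scoped commutatorElement

universe u

variable {X : Type u} [Group X] [Finite X]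

/-- The image modulo `N` of a group all whose perfect subgroups lie in `N` is solvable. -/
theorem isSolvable_map_of_perfect_le {N Y : Subgroup X} [N.Normal]
    (h : ∀ K ≤ Y, ⁅K, K⁆ = K → K ≤ N) : Group.IsSolvable (Y.map (QuotientGroup.mk' N)) := by
  obtain ⟨n, hn⟩ : ∃ n, derivedSeries ↥Y (n + 1) = derivedSeries ↥Y n := by
    by_contra hc
    push Not at hc
    have hb : ∀ n, Nat.card (derivedSeries ↥Y n) + n ≤ Nat.card ↥Y := by
      intro n
      induction n with
      | zero => simp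
      | succ n ih =>
        have hle : derivedSeries ↥Y (n + 1) ≤ derivedSeries ↥Y n :=
          derivedSeries_antitone ↥Y (Nat.le_succ n)
        have hlt : Nat.card (derivedSeries ↥Y (n + 1)) < Nat.card (derivedSeries ↥Y n) :=
          lt_of_le_of_ne (card_le_of_le hle) fun he => hc n (eq_of_le_of_card_ge hle he.ge)
        omega
    have := hb (Nat.card ↥Y + 1)
    omega
  set E := (derivedSeries ↥Y n).map Y.subtype
  have hE : ⁅E, E⁆ = E := by rw [← map_commutator, ← derivedSeries_succ, hn]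
  have hEN := h E (map_subtype_le _) hE
  have hsurj : Function.Surjective ((QuotientGroup.mk' N).subgroupMap Y) :=
    (QuotientGroup.mk' N).subgroupMap_surjective Y
  refine ⟨⟨n, ?_⟩⟩
  rw [← map_derivedSeries_eq hsurj n, eq_bot_iff]
  rintro _ ⟨y, hy, rfl⟩
  exact mem_bot.2 (Subtype.ext ((QuotientGroup.eq_one_iff _).2 (hEN ⟨y, hy, rfl⟩)))

/-- A perfect group inside `N ⊔ Y` lies in `N`. -/
theorem le_of_le_sup {N Y K : Subgroup X} [N.Normal] (h : ∀ K ≤ Y, ⁅K, K⁆ = K → K ≤ N)
    (hK : ⁅K, K⁆ = K) (hle : K ≤ N ⊔ Y) : K ≤ N := by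
  haveI := isSolvable_map_of_perfect_le h
  have h1 : K.map (QuotientGroup.mk' N) ≤ Y.map (QuotientGroup.mk' N) := by
    refine (map_mono hle).trans ?_
    rw [Subgroup.map_sup, QuotientGroup.map_mk'_self, bot_sup_eq]
  have h2 : K.map (QuotientGroup.mk' N) = ⊥ := eq_bot_of_perfect (perfect_map hK _)
    (Group.isSolvable_of_isSolvable_injective (f := inclusion h1) (inclusion_injective h1))
  rwa [Subgroup.map_eq_bot_iff, QuotientGroup.ker_mk'] at h2

/-- Frattini argument, elementwise. -/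
theorem exists_mul_mem_normalizer {p : ℕ} [Fact p.Prime] {M T : Subgroup X} {y : X}
    (hy : ∀ m, m ∈ M ↔ y * m * y⁻¹ ∈ M) (hTM : T ≤ M) (hT : IsPGroup p T)
    (hmax : ∀ P : Subgroup X, P ≤ M → IsPGroup p P → T ≤ P → P = T) :
    ∃ m ∈ M, m * y ∈ normalizer (T : Set X) := by
  let T₀ : Sylow p M :=
    { toSubgroup := T.subgroupOf M
      isPGroup' := hT.comap_of_injective M.subtype Subtype.val_injective
      is_maximal' := fun {Q} hQ hle => by
        have h1 : Q.map M.subtype = T := hmax _ (map_subtype_le _) (hQ.map _) (by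
          rw [← map_subgroupOf_eq_of_le hTM]; exact map_mono hle)
        rw [← h1, subgroupOf, comap_map_eq_self_of_injective Subtype.val_injective] }
  set T' := T.map (MulAut.conj y).toMonoidHom
  have hT'M : T' ≤ M := by rintro _ ⟨t, ht, rfl⟩; exact (hy t).1 (hTM ht)
  obtain ⟨Q, hQ⟩ := ((hT.map (MulAut.conj y).toMonoidHom).comap_of_injective M.subtype
    Subtype.val_injective).exists_le_sylow
  obtain ⟨m, hm⟩ := MulAction.exists_smul_eq M Q T₀
  refine ⟨m, m.2, ?_⟩
  have hmem : ∀ t ∈ T, (m * y : X) * t * (m * y : X)⁻¹ ∈ T := by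
    intro t ht
    have h1 : (⟨y * t * y⁻¹, (hy t).1 (hTM ht)⟩ : M) ∈ (Q : Subgroup M) :=
      hQ (mem_subgroupOf.2 ⟨t, ht, rfl⟩)
    have h2 : m * ⟨y * t * y⁻¹, (hy t).1 (hTM ht)⟩ * m⁻¹ ∈ (T₀ : Subgroup M) := by
      rw [← hm, Sylow.coe_subgroup_smul]
      exact ⟨_, h1, rfl⟩
    have h3 : (m : X) * (y * t * y⁻¹) * (m : X)⁻¹ ∈ T := mem_subgroupOf.1 h2
    simpa [mul_assoc] using h3
  have heq : T.map (MulAut.conj ((m : X) * y)).toMonoidHom = T :=
    eq_of_le_of_card_ge (by rintro _ ⟨t, ht, rfl⟩; exact hmem t ht)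
      (card_map_of_injective (MulAut.conj ((m : X) * y)).injective).ge
  exact mem_normalizer_iff_map_conj_eq.2 heq

set_option maxHeartbeats 1000000 in
/-- Perfect subgroups lie in `N`. -/
theorem perfect_le (hFT : CfsgLib.FT.OddOrderThm.{u}) {N : Subgroup X} [hN : N.Normal]
    (hC : centralizer (N : Set X) = ⊥) (hO : oddCore ↥N = ⊥) (S : Sylow 2 N)
    (hS : (S : Subgroup N) ≠ ⊥)
    (hcomm : ∀ s ∈ S, ∀ t ∈ S, orderOf s = 2 → orderOf t = 2 → s * t = t * s)
    (hconj : ∀ s ∈ S, ∀ t ∈ S, orderOf s = 2 → orderOf t = 2 → ∃ g : N, g * s * g⁻¹ = t)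
    {K : Subgroup X} (hK : ⁅K, K⁆ = K) : K ≤ N := by
  classical
  haveI : Fact (Nat.Prime 2) := ⟨Nat.prime_two⟩
  set S₀ := (S : Subgroup N).map N.subtype with hS₀
  have hS₀N : S₀ ≤ N := map_subtype_le _
  have hS₀p : IsPGroup 2 S₀ := S.isPGroup'.map _
  have hmemS : ∀ {x : X} (hx : x ∈ S₀), (⟨x, hS₀N hx⟩ : N) ∈ (S : Subgroup N) := by
    rintro _ ⟨n, hn, rfl⟩
    exact hn
  have hord : ∀ {x : N}, (x : X) * x = 1 → x ≠ 1 → orderOf x = 2 := fun h h1 =>
    orderOf_eq_prime (by rw [pow_two]; exact Subtype.ext h) h1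
  have hcommA : ∀ x ∈ S₀, ∀ y ∈ S₀, x * x = 1 → y * y = 1 → x * y = y * x := by
    intro x hx y hy hx2 hy2
    rcases eq_or_ne x 1 with rfl | hx1
    · simp
    rcases eq_or_ne y 1 with rfl | hy1
    · simp
    exact congrArg Subtype.val (hcomm _ (hmemS hx) _ (hmemS hy)
      (hord hx2 fun h => hx1 (congrArg Subtype.val h)) (hord hy2 fun h => hy1 (congrArg Subtype.val h)))
  let A : Subgroup X :=
    { carrier := {x | x ∈ S₀ ∧ x * x = 1}
      one_mem' := ⟨one_mem _, one_mul 1⟩
      mul_mem' := fun {a b} ha hb => ⟨mul_mem ha.1 hb.1, by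
        calc a * b * (a * b) = a * (b * a) * b := by group
          _ = a * (a * b) * b := by rw [hcommA a ha.1 b hb.1 ha.2 hb.2]
          _ = (a * a) * (b * b) := by group
          _ = 1 := by rw [ha.2, hb.2, one_mul]⟩
      inv_mem' := fun {a} ha => ⟨inv_mem ha.1, by rw [← mul_inv_rev, ha.2, inv_one]⟩ }
  have hAS : A ≤ S₀ := fun x hx => hx.1
  have hAp : IsPGroup 2 A := hS₀p.to_le hAS
  have hAN : A ≤ N := hAS.trans hS₀N
  -- involutions of a `2`-subgroup containing `A`
  have hfact : ∀ T : Subgroup X, T ≤ N → IsPGroup 2 T → A ≤ T →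
      ∃ n ∈ N, (∀ t ∈ T, n * t * n⁻¹ ∈ S₀) ∧ ∀ a, a ∈ A ↔ n * a * n⁻¹ ∈ A := by
    intro T hTN hT hAT
    obtain ⟨Q, hQ⟩ := (hT.comap_of_injective N.subtype Subtype.val_injective).exists_le_sylow
    obtain ⟨n, hn⟩ := MulAction.exists_smul_eq N Q S
    have hmap : ∀ t ∈ T, (n : X) * t * (n : X)⁻¹ ∈ S₀ := fun t ht => by
      refine ⟨n * ⟨t, hTN ht⟩ * n⁻¹, ?_, rfl⟩
      rw [← hn, SetLike.mem_coe, Sylow.coe_subgroup_smul]
      exact ⟨_, hQ (mem_subgroupOf.2 ht), rfl⟩
    refine ⟨n, n.2, hmap, fun a => ?_⟩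
    have hA' : A.map (MulAut.conj (n : X)).toMonoidHom = A :=
      eq_of_le_of_card_ge (by
        rintro _ ⟨a, ha, rfl⟩
        refine ⟨hmap a (hAT ha), ?_⟩
        change (n : X) * a * (n : X)⁻¹ * ((n : X) * a * (n : X)⁻¹) = 1
        calc (n : X) * a * (n : X)⁻¹ * ((n : X) * a * (n : X)⁻¹) = n * (a * a) * (n : X)⁻¹ := by group
          _ = 1 := by rw [ha.2, mul_one, mul_inv_cancel])
        (card_map_of_injective (MulAut.conj (n : X)).injective).ge
    exact mem_normalizer_iff.1 (mem_normalizer_iff_map_conj_eq.2 hA') a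
  have hfactA : ∀ T : Subgroup X, T ≤ N → IsPGroup 2 T → A ≤ T → ∀ t ∈ T, t * t = 1 → t ∈ A := by
    intro T hTN hT hAT t ht ht2
    obtain ⟨n, -, hn, hna⟩ := hfact T hTN hT hAT
    refine (hna t).2 ⟨hn t ht, ?_⟩
    calc n * t * n⁻¹ * (n * t * n⁻¹) = n * (t * t) * n⁻¹ := by group
      _ = 1 := by rw [ht2, mul_one, mul_inv_cancel]
  have hS₀A : S₀ ≤ normalizer (A : Set X) := fun s hs => mem_normalizer_iff.2 fun a => by
    constructor
    · intro ha
      refine ⟨mul_mem (mul_mem hs ha.1) (inv_mem hs), ?_⟩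
      calc s * a * s⁻¹ * (s * a * s⁻¹) = s * (a * a) * s⁻¹ := by group
        _ = 1 := by rw [ha.2, mul_one, mul_inv_cancel]
    · intro ha
      have e : a = s⁻¹ * (s * a * s⁻¹) * s := by group
      rw [e]
      refine ⟨mul_mem (mul_mem (inv_mem hs) ha.1) hs, ?_⟩
      calc s⁻¹ * (s * a * s⁻¹) * s * (s⁻¹ * (s * a * s⁻¹) * s)
          = s⁻¹ * ((s * a * s⁻¹) * (s * a * s⁻¹)) * s := by group
        _ = 1 := by rw [ha.2, mul_one, inv_mul_cancel]
  have hNS₀ : normalizer (S₀ : Set X) ≤ normalizer (A : Set X) := fun g hg => by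
    refine mem_normalizer_iff.2 fun a => ?_
    have hsq : a * a = 1 ↔ g * a * g⁻¹ * (g * a * g⁻¹) = 1 := by
      rw [show g * a * g⁻¹ * (g * a * g⁻¹) = g * (a * a) * g⁻¹ by group, conj_eq_one_iff]
    exact and_congr (mem_normalizer_iff.1 hg a) hsq
  have hAc : A ≤ centralizer (A : Set X) := fun a ha =>
    mem_centralizer_iff.2 fun b hb => hcommA b hb.1 a ha.1 hb.2 ha.2
  -- transitivity
  have htrans : ∀ a ∈ A, ∀ b ∈ A, a ≠ 1 → b ≠ 1 → ∃ n ∈ N ⊓ normalizer (A : Set X), n * a * n⁻¹ = b := by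
    intro a ha b hb ha1 hb1
    obtain ⟨g, hg⟩ := hconj _ (hmemS ha.1) _ (hmemS hb.1)
      (hord ha.2 fun h => ha1 (congrArg Subtype.val h)) (hord hb.2 fun h => hb1 (congrArg Subtype.val h))
    have hg' : (g : X) * a * (g : X)⁻¹ = b := congrArg Subtype.val hg
    set Cb := N ⊓ centralizer ({b} : Set X)
    have hACb : A ≤ Cb := le_inf hAN fun x hx => mem_centralizer_singleton_iff.2
      (hcommA x hx.1 b hb.1 hx.2 hb.2)
    set A' := A.map (MulAut.conj (g : X)).toMonoidHom
    have hA'Cb : A' ≤ Cb := by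
      rintro _ ⟨x, hx, rfl⟩
      refine mem_inf.2 ⟨mul_mem (mul_mem g.2 (hAN hx)) (inv_mem g.2), mem_centralizer_singleton_iff.2 ?_⟩
      change (g : X) * x * (g : X)⁻¹ * b = b * ((g : X) * x * (g : X)⁻¹)
      rw [← hg']
      calc (g : X) * x * (g : X)⁻¹ * ((g : X) * a * (g : X)⁻¹) = g * (x * a) * (g : X)⁻¹ := by group
        _ = g * (a * x) * (g : X)⁻¹ := by rw [hcommA x hx.1 a ha.1 hx.2 ha.2]
        _ = _ := by group
    obtain ⟨P, hP⟩ := (hAp.comap_of_injective Cb.subtype Subtype.val_injective).exists_le_sylow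
    obtain ⟨Q, hQ⟩ := ((hAp.map (MulAut.conj (g : X)).toMonoidHom).comap_of_injective Cb.subtype
      Subtype.val_injective).exists_le_sylow
    obtain ⟨c, hc⟩ := MulAction.exists_smul_eq Cb Q P
    set T := (P : Subgroup Cb).map Cb.subtype
    have hAT : A ≤ T := fun x hx => ⟨⟨x, hACb hx⟩, hP (mem_subgroupOf.2 hx), rfl⟩
    have hin : ∀ x ∈ A, (c : X) * ((g : X) * x * (g : X)⁻¹) * (c : X)⁻¹ ∈ A := by
      intro x hx
      refine hfactA T ((map_subtype_le _).trans inf_le_left) (P.isPGroup'.map _) hAT _ ?_ ?_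
      · refine ⟨c * ⟨_, hA'Cb ⟨x, hx, rfl⟩⟩ * c⁻¹, ?_, rfl⟩
        rw [← hc, SetLike.mem_coe, Sylow.coe_subgroup_smul]
        exact ⟨_, hQ (mem_subgroupOf.2 ⟨x, hx, rfl⟩), rfl⟩
      · calc (c : X) * (g * x * (g : X)⁻¹) * (c : X)⁻¹ * (c * (g * x * (g : X)⁻¹) * (c : X)⁻¹)
            = c * g * (x * x) * ((g : X)⁻¹ * (c : X)⁻¹) := by group
          _ = 1 := by rw [hx.2]; group
    refine ⟨c * g, ⟨mul_mem c.2.1 g.2, mem_normalizer_iff_map_conj_eq.2 ?_⟩, ?_⟩
    · refine eq_of_le_of_card_ge ?_ (card_map_of_injective (MulAut.conj _).injective).ge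
      rintro _ ⟨x, hx, rfl⟩
      have := hin x hx
      simpa [mul_assoc] using this
    · calc (c : X) * g * a * ((c : X) * g)⁻¹ = c * ((g : X) * a * (g : X)⁻¹) * (c : X)⁻¹ := by group
        _ = c * b * (c : X)⁻¹ := by rw [hg']
        _ = b := by rw [mem_centralizer_singleton_iff.1 c.2.2, mul_inv_cancel_right]
  -- the fixed subgroup of `A` in `S₀`
  set T := S₀ ⊓ centralizer (A : Set X) with hT_def
  have hTp : IsPGroup 2 T := hS₀p.to_le inf_le_left
  have hAT : A ≤ T := le_inf hAS hAc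
  have hCA_le : ∀ {g : X}, g ∈ normalizer (A : Set X) → g ∈ normalizer ((centralizer (A : Set X) : Subgroup X) : Set X) := by
    intro g hg
    have key : ∀ h ∈ normalizer (A : Set X), ∀ x ∈ centralizer (A : Set X),
        h * x * h⁻¹ ∈ centralizer (A : Set X) := fun h hh x hx => mem_centralizer_iff.2 fun a ha => by
      have ha' : h⁻¹ * a * h ∈ A := (mem_normalizer_iff''.1 hh a).1 ha
      calc a * (h * x * h⁻¹) = h * ((h⁻¹ * a * h) * x) * h⁻¹ := by group
        _ = h * (x * (h⁻¹ * a * h)) * h⁻¹ := by rw [mem_centralizer_iff.1 hx _ ha']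
        _ = h * x * h⁻¹ * a := by group
    refine mem_normalizer_iff.2 fun x => ⟨key g hg x, fun h => ?_⟩
    have := key g⁻¹ (inv_mem hg) _ h
    simpa [mul_assoc] using this
  have hTmax : ∀ P : Subgroup X, P ≤ N ⊓ centralizer (A : Set X) → IsPGroup 2 P → T ≤ P → P = T := by
    intro P hP hPp hTP
    obtain ⟨n, hnN, hn, hna⟩ := hfact P (hP.trans inf_le_left) hPp (hAT.trans hTP)
    have hnA : n ∈ normalizer (A : Set X) := mem_normalizer_iff.2 hna
    refine (eq_of_le_of_card_ge hTP ?_).symm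
    rw [← card_map_of_injective (K := P) (f := (MulAut.conj n).toMonoidHom) (MulAut.conj n).injective]
    refine card_le_of_le ?_
    rintro _ ⟨x, hx, rfl⟩
    exact ⟨hn x hx, (mem_normalizer_iff.1 (hCA_le hnA) x).1 (hP hx).2⟩
  -- the bottom step
  have h4 : ∀ K ≤ centralizer (A : Set X) ⊓ normalizer (T : Set X) ⊓ normalizer (S₀ : Set X),
      ⁅K, K⁆ = K → K ≤ N := by
    intro K hKle hK
    have hKA : K ≤ centralizer (A : Set X) := hKle.trans (inf_le_left.trans inf_le_left)
    have hKT : K ≤ centralizer (T : Set X) :=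
      le_centralizer_of_fix_involutions hK hTp (hKle.trans (inf_le_left.trans inf_le_right))
        fun x hx hx2 k hk => (mem_centralizer_iff.1 (hKA hk) x ⟨hx.1, hx2⟩).symm
    have hKS : K ≤ normalizer (S₀ : Set X) := hKle.trans inf_le_right
    have h1 : ⁅S₀, K⁆ ≤ T := commutator_le.2 fun s hs k hk => by
      refine ⟨?_, mem_centralizer_iff.2 fun a ha => ?_⟩
      · rw [commutatorElement_def, mul_assoc, mul_assoc]
        exact mul_mem hs (by
          rw [← mul_assoc]
          exact (mem_normalizer_iff.1 (hKS hk) _).1 (inv_mem hs))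
      · have hk' := hKA hk
        have hki := inv_mem hk'
        have hsA := mem_normalizer_iff''.1 (hS₀A hs) a
        have ha' : s⁻¹ * a * s ∈ A := hsA.1 ha
        rw [commutatorElement_def]
        calc a * (s * k * s⁻¹ * k⁻¹) = s * ((s⁻¹ * a * s) * k) * s⁻¹ * k⁻¹ := by group
          _ = s * (k * (s⁻¹ * a * s)) * s⁻¹ * k⁻¹ := by rw [mem_centralizer_iff.1 hk' _ ha']
          _ = s * k * s⁻¹ * (a * k⁻¹) := by group
          _ = s * k * s⁻¹ * (k⁻¹ * a) := by rw [mem_centralizer_iff.1 hki a ha]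
          _ = _ := by group
    have h2 : ⁅⁅S₀, K⁆, K⁆ = ⊥ := eq_bot_iff.2 <| (commutator_mono h1 le_rfl).trans
      (commutator_eq_bot_iff_le_centralizer.2 fun t ht => mem_centralizer_iff.2 fun k hk =>
        (mem_centralizer_iff.1 (hKT hk) t ht).symm).le
    have h3 : ⁅⁅K, S₀⁆, K⁆ = ⊥ := by rw [commutator_comm K S₀]; exact h2
    have h5 : ⁅⁅K, K⁆, S₀⁆ = ⊥ := commutator_commutator_eq_bot_of_rotate h3 h2
    rw [hK, commutator_eq_bot_iff_le_centralizer] at h5
    have hsol := CfsgLib.Involutions.CentralizedSylow.isSolvable_of_le_centralizer_sylow hFT hC hO S h5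
    rw [eq_bot_of_perfect hK hsol]
    exact bot_le
  have h3 : ∀ K ≤ centralizer (A : Set X) ⊓ normalizer (T : Set X), ⁅K, K⁆ = K → K ≤ N := by
    intro K hKle hK
    refine le_of_le_sup h4 hK fun y hy => ?_
    obtain ⟨hyA, hyT⟩ := hKle hy
    set L := N ⊓ normalizer (A : Set X) ⊓ normalizer (T : Set X)
    set D := L ⊓ centralizer (A : Set X)
    have hS₀L : S₀ ≤ L := le_inf (le_inf hS₀N hS₀A) fun s hs => mem_normalizer_iff.2 fun x =>
      (mem_inf.trans (and_congr ⟨fun h => mul_mem (mul_mem hs h) (inv_mem hs), fun h => by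
        have := mul_mem (mul_mem (inv_mem hs) h) hs
        simpa [mul_assoc] using this⟩ (mem_normalizer_iff.1 (hCA_le (hS₀A hs)) x))).trans mem_inf.symm
    have hLD : L ≤ normalizer (D : Set X) := fun l hl => mem_normalizer_iff.2 fun x =>
      (mem_inf.trans (and_congr ⟨fun h => mul_mem (mul_mem hl h) (inv_mem hl), fun h => by
        have := mul_mem (mul_mem (inv_mem hl) h) hl
        simpa [mul_assoc] using this⟩ (mem_normalizer_iff.1 (hCA_le hl.1.2) x))).trans mem_inf.symm
    set M := S₀ ⊔ D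
    have hML : M ≤ L := sup_le hS₀L inf_le_left
    have hyA' : y ∈ normalizer (A : Set X) := centralizer_le_normalizer _ hyA
    have hyL : ∀ g ∈ L, y * g * y⁻¹ * g⁻¹ ∈ D := by
      intro g hg
      refine mem_inf.2 ⟨mem_inf.2 ⟨mem_inf.2 ⟨?_, ?_⟩, ?_⟩, mem_centralizer_iff.2 fun a ha => ?_⟩
      · exact mul_mem (hN.conj_mem g hg.1.1 y) (inv_mem hg.1.1)
      · exact mul_mem (mul_mem (mul_mem hyA' hg.1.2) (inv_mem hyA')) (inv_mem hg.1.2)
      · exact mul_mem (mul_mem (mul_mem hyT hg.2) (inv_mem hyT)) (inv_mem hg.2)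
      · have hg1 : g⁻¹ * a * g ∈ A := (mem_normalizer_iff''.1 hg.1.2 a).1 ha
        calc a * (y * g * y⁻¹ * g⁻¹) = (a * y) * g * y⁻¹ * g⁻¹ := by group
          _ = (y * a) * g * y⁻¹ * g⁻¹ := by rw [mem_centralizer_iff.1 hyA a ha]
          _ = y * g * ((g⁻¹ * a * g) * y⁻¹) * g⁻¹ := by group
          _ = y * g * (y⁻¹ * (g⁻¹ * a * g)) * g⁻¹ := by
            rw [mem_centralizer_iff.1 (inv_mem hyA) _ hg1]
          _ = _ := by group
    have hconjM : ∀ z ∈ centralizer (A : Set X) ⊓ normalizer (T : Set X),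
        (∀ g ∈ L, z * g * z⁻¹ * g⁻¹ ∈ D) → ∀ m ∈ M, z * m * z⁻¹ ∈ M := by
      intro z _ hz m hm
      have := mul_mem (mem_sup_right (S := S₀) (hz m (hML hm))) hm
      simpa [mul_assoc] using this
    have hy' : ∀ m, m ∈ M ↔ y * m * y⁻¹ ∈ M := fun m => by
      refine ⟨hconjM y (mem_inf.2 ⟨hyA, hyT⟩) hyL m, fun h => ?_⟩
      have hinv : ∀ g ∈ L, y⁻¹ * g * y⁻¹⁻¹ * g⁻¹ ∈ D := by
        intro g hg
        have hg' : y⁻¹ * g * y ∈ L := mem_inf.2 ⟨mem_inf.2 ⟨by
          have := hN.conj_mem g hg.1.1 y⁻¹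
          rwa [inv_inv] at this, mul_mem (mul_mem (inv_mem hyA') hg.1.2) hyA'⟩,
          mul_mem (mul_mem (inv_mem hyT) hg.2) hyT⟩
        have := inv_mem (hyL _ hg')
        simpa [mul_assoc] using this
      have := hconjM y⁻¹ (mem_inf.2 ⟨inv_mem hyA, inv_mem hyT⟩) hinv _ h
      simpa [mul_assoc] using this
    obtain ⟨m, hm, hmy⟩ := exists_mul_mem_normalizer (p := 2) hy'
      (le_sup_left : S₀ ≤ M) hS₀p (fun P hP hPp hle => by
        refine (eq_of_le_of_card_ge hle ?_).symm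
        have hPN : P ≤ N := hP.trans (hML.trans (inf_le_left.trans inf_le_left))
        have h1 := S.is_maximal' (hPp.comap_of_injective N.subtype Subtype.val_injective)
          (fun x hx => mem_subgroupOf.2 (hle ⟨x, hx, rfl⟩))
        refine card_le_of_le fun x hx => ⟨⟨x, hPN hx⟩, ?_, rfl⟩
        exact h1.le (mem_subgroupOf.2 hx))
    rw [← SetLike.mem_coe, coe_mul_of_left_le_normalizer_right S₀ D (hS₀L.trans hLD)] at hm
    obtain ⟨s, hs, d, hd, rfl⟩ := hm
    refine mem_sup_of_normal_left.2 ⟨d⁻¹, inv_mem hd.1.1.1, d * y, ⟨⟨?_, ?_⟩, ?_⟩, by group⟩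
    · exact mul_mem hd.2 hyA
    · exact mul_mem hd.1.2 hyT
    · have := mul_mem (inv_mem (le_normalizer hs)) hmy
      simpa [mul_assoc] using this
  have h2 : ∀ K ≤ centralizer (A : Set X), ⁅K, K⁆ = K → K ≤ N := by
    intro K hKle hK
    refine le_of_le_sup h3 hK fun y hy => ?_
    have hyA := hKle hy
    have hyC : y ∈ normalizer ((centralizer (A : Set X) : Subgroup X) : Set X) := le_normalizer hyA
    have hy' : ∀ m, m ∈ N ⊓ centralizer (A : Set X) ↔ y * m * y⁻¹ ∈ N ⊓ centralizer (A : Set X) :=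
      fun m => and_congr ⟨fun h => hN.conj_mem m h y, fun h => by
        have := hN.conj_mem _ h y⁻¹
        simpa [mul_assoc] using this⟩ (mem_normalizer_iff.1 hyC m)
    obtain ⟨m, hm, hmy⟩ := exists_mul_mem_normalizer (p := 2) hy'
      (le_inf (inf_le_left.trans hS₀N) inf_le_right : T ≤ N ⊓ centralizer (A : Set X)) hTp hTmax
    exact mem_sup_of_normal_left.2 ⟨m⁻¹, inv_mem hm.1, m * y, ⟨mul_mem hm.2 hyA, hmy⟩, by group⟩
  -- the action on `A`
  have h1 : ∀ K ≤ normalizer (A : Set X), ⁅K, K⁆ = K → K ≤ N := by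
    intro K hKle hK
    refine le_of_le_sup h2 hK ?_
    letI : CommGroup A := { (inferInstance : Group A) with
      mul_comm := fun a b => Subtype.ext (hcommA a a.2.1 b b.2.1 a.2.2 b.2.2) }
    letI : Module (ZMod 2) (Additive A) := AddCommGroup.zmodModule fun v => by
      apply Additive.toMul.injective
      rw [toMul_nsmul, toMul_zero, pow_two]
      exact Subtype.ext (Additive.toMul v).2.2
    let ρ : normalizer (A : Set X) →* Module.End (ZMod 2) (Additive A) :=
      { toFun := fun g => ((MonoidHom.toAdditive (MulEquiv.toMonoidHom (A.normalizerMonoidHom g)))).toZModLinearMap 2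
        map_one' := LinearMap.ext fun v => by
          change Additive.ofMul (A.normalizerMonoidHom 1 v.toMul) = v
          rw [map_one]
          rfl
        map_mul' := fun g h => LinearMap.ext fun v => by
          change Additive.ofMul (A.normalizerMonoidHom (g * h) v.toMul) =
            Additive.ofMul (A.normalizerMonoidHom g (A.normalizerMonoidHom h v.toMul))
          rw [map_mul]
          rfl }
    let ρu := ρ.toHomUnits
    let G' := ρu.range
    haveI : Finite G' := Finite.of_surjective _ ρu.rangeRestrict_surjective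
    let R : G' →* Module.End (ZMod 2) (Additive A) := (Units.coeHom _).comp G'.subtype
    have hR : Function.Injective R := fun a b h => Subtype.ext (Units.ext h)
    let H' : Subgroup G' := (N.subgroupOf (normalizer (A : Set X))).map ρu.rangeRestrict
    haveI : H'.Normal :=
      Subgroup.Normal.map (hN.subgroupOf _) _ ρu.rangeRestrict_surjective
    let K₁ : Subgroup (normalizer (A : Set X)) := K.subgroupOf _
    have hK₁ : ⁅K₁, K₁⁆ = K₁ := by
      apply map_injective (normalizer (A : Set X)).subtype_injective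
      rw [map_commutator, map_subgroupOf_eq_of_le hKle, hK]
    haveI : Nontrivial (Additive A) := by
      obtain ⟨x, hx⟩ := exists_prime_orderOf_dvd_card' 2 (G := (S : Subgroup N)) (by
        obtain ⟨k, hk⟩ := IsPGroup.iff_card.1 S.isPGroup'
        rw [hk]
        refine dvd_pow_self 2 fun h0 => hS (eq_bot_of_card_eq _ (by rw [hk, h0, pow_zero])))
      have h2 : (x : N) * x = 1 := by
        have h0 : ((x : (S : Subgroup N)) ^ 2 : (S : Subgroup N)) = 1 := by
          have := pow_orderOf_eq_one x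
          rwa [hx] at this
        rw [← pow_two]
        exact congrArg Subtype.val h0
      refine ⟨⟨Additive.ofMul ⟨((x : N) : X), ⟨x, x.2, rfl⟩, congrArg Subtype.val h2⟩, 0, fun h => ?_⟩⟩
      have : ((x : N) : X) = 1 := congrArg Subtype.val (Additive.ofMul.injective h)
      rw [show x = 1 from Subtype.ext (Subtype.ext this), orderOf_one] at hx
      omega
    have htr : ∀ v w : Additive A, v ≠ 0 → w ≠ 0 → ∃ h ∈ H', R h v = w := by
      intro v w hv hw
      obtain ⟨n, hn, he⟩ := htrans _ (Additive.toMul v).2 _ (Additive.toMul w).2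
        (fun h => hv (Additive.toMul.injective (Subtype.ext h)))
        (fun h => hw (Additive.toMul.injective (Subtype.ext h)))
      refine ⟨_, mem_map_of_mem _ (show (⟨n, hn.2⟩ : normalizer (A : Set X)) ∈ N.subgroupOf _ from
        mem_subgroupOf.2 hn.1), ?_⟩
      exact Additive.toMul.injective (Subtype.ext he)
    have hle := le_of_transitive R hR (H := H') (perfect_map hK₁ ρu.rangeRestrict) htr
    intro k hk
    obtain ⟨n, hn, hne⟩ := hle (mem_map_of_mem _ (show (⟨k, hKle hk⟩ : normalizer (A : Set X)) ∈ K₁ from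
      mem_subgroupOf.2 hk))
    refine mem_sup_of_normal_left.2 ⟨(n : X), mem_subgroupOf.1 hn, (n : X)⁻¹ * k, ?_, by group⟩
    set y : normalizer (A : Set X) := n⁻¹ * ⟨k, hKle hk⟩
    have hy : ρu.rangeRestrict y = 1 := by rw [map_mul, map_inv, hne, inv_mul_cancel]
    have hy' : ρ y = 1 := congrArg Units.val (congrArg Subtype.val hy)
    rw [mem_centralizer_iff]
    intro a ha
    have h1 : (y : X) * a * (y : X)⁻¹ = a :=
      congrArg (fun v : Additive A => ((Additive.toMul v : A) : X))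
        (LinearMap.congr_fun hy' (Additive.ofMul ⟨a, ha⟩))
    exact (mul_inv_eq_iff_eq_mul.1 h1).symm
  refine le_of_le_sup h1 hK fun x _ => ?_
  have := Sylow.normalizer_sup_eq_top S
  rw [sup_comm]
  exact sup_le_sup_right hNS₀ N (this ▸ mem_top x)

/-- The outer automorphism group is solvable when the involutions commute and are conjugate. -/
theorem isSolvable_out (hFT : CfsgLib.FT.OddOrderThm.{u}) {G : Type u} [Group G] [Finite G]
    [IsSimpleGroup G] (hG : ¬ IsMulCommutative G) (S : Sylow 2 G) (hS1 : (S : Subgroup G) ≠ ⊥)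
    (hcomm : ∀ s ∈ S, ∀ t ∈ S, orderOf s = 2 → orderOf t = 2 → s * t = t * s)
    (hconj : ∀ s ∈ S, ∀ t ∈ S, orderOf s = 2 → orderOf t = 2 → ∃ g : G, g * s * g⁻¹ = t) :
    Group.IsSolvable (Cfsg.Out G) := by
  set ι : G →* MulAut G := MulAut.conj with hι
  have hz : center G = ⊥ := by
    refine (IsSimpleGroup.eq_bot_or_eq_top_of_normal (center G) inferInstance).resolve_right
      fun h => hG ⟨⟨fun a b => ?_⟩⟩
    exact mem_center_iff.1 (h ▸ mem_top b) a
  have hinj : Function.Injective ι := by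
    rw [← MonoidHom.ker_eq_bot_iff, eq_bot_iff, ← hz]
    intro g hg
    rw [mem_center_iff]
    intro x
    have h := DFunLike.congr_fun (MonoidHom.mem_ker.1 hg) x
    rw [hι, MulAut.conj_apply, MulAut.one_apply, mul_inv_eq_iff_eq_mul] at h
    exact h.symm
  have hC : centralizer ((Inn G : Subgroup (MulAut G)) : Set (MulAut G)) = ⊥ := by
    rw [eq_bot_iff]
    intro φ hφ
    refine mem_bot.2 (MulEquiv.ext fun g => hinj (MulEquiv.ext fun x => ?_))
    have h := DFunLike.congr_fun (mem_centralizer_iff.1 hφ (ι g) ⟨g, rfl⟩) (φ.symm x)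
    simp only [hι, MulAut.mul_apply, MulAut.conj_apply, MulAut.one_apply, map_mul, map_inv,
      MulEquiv.apply_symm_apply] at h ⊢
    exact h.symm
  let e : G ≃* Inn G := MonoidHom.ofInjective hinj
  let S' : Sylow 2 (Inn G) := S.mapSurjective (f := e.toMonoidHom) e.surjective
  have hS' : (S' : Subgroup (Inn G)) = (S : Subgroup G).map e.toMonoidHom :=
    Sylow.coe_mapSurjective _ _
  have hO : oddCore ↥(Inn G) = ⊥ := by
    haveI : IsSimpleGroup (Inn G) := e.symm.isSimpleGroup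
    refine (IsSimpleGroup.eq_bot_or_eq_top_of_normal _ (pPrimeCore_normal 2 _)).resolve_right
      fun h => hS1 ?_
    have hodd := CfsgLib.Base.le_oddCore_iff.1 (le_refl (oddCore ↥(Inn G)))
    rw [show oddCore ↥(Inn G) = ⊤ from h, card_top, ← Nat.card_congr e.toEquiv] at hodd
    obtain ⟨k, hk⟩ := IsPGroup.iff_card.1 S.isPGroup'
    rcases k with _ | k
    · exact eq_bot_of_card_eq _ (by rw [hk, pow_zero])
    · have := (S : Subgroup G).card_subgroup_dvd_card
      rw [hk, pow_succ] at this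
      exact absurd hodd (Nat.not_odd_iff_even.2
        (even_iff_two_dvd.2 ((dvd_mul_left 2 _).trans this)))
  have hS'1 : (S' : Subgroup (Inn G)) ≠ ⊥ := by
    rw [hS', Ne, map_eq_bot_iff_of_injective _ (f := e.toMonoidHom) e.injective]
    exact hS1
  have hmem : ∀ x ∈ S', ∃ s ∈ S, e s = x := fun x hx => by
    have : x ∈ (S : Subgroup G).map e.toMonoidHom := hS' ▸ hx
    exact this
  have hperf : ∀ K ≤ (⊤ : Subgroup (MulAut G)), ⁅K, K⁆ = K → K ≤ Inn G := fun K _ hK =>
    perfect_le hFT hC hO S' hS'1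
      (fun x hx y hy hx2 hy2 => by
        obtain ⟨s, hs, rfl⟩ := hmem x hx
        obtain ⟨t, ht, rfl⟩ := hmem y hy
        rw [MulEquiv.orderOf_eq] at hx2 hy2
        rw [← map_mul, ← map_mul, hcomm s hs t ht hx2 hy2])
      (fun x hx y hy hx2 hy2 => by
        obtain ⟨s, hs, rfl⟩ := hmem x hx
        obtain ⟨t, ht, rfl⟩ := hmem y hy
        rw [MulEquiv.orderOf_eq] at hx2 hy2
        obtain ⟨g, hg⟩ := hconj s hs t ht hx2 hy2
        exact ⟨e g, by rw [← map_inv, ← map_mul, ← map_mul, hg]⟩) hK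
  haveI := isSolvable_map_of_perfect_le (N := Inn G) hperf
  exact Group.isSolvable_of_surjective
    (f := ((⊤ : Subgroup (MulAut G)).map (QuotientGroup.mk' (Inn G))).subtype) fun q => by
      obtain ⟨x, rfl⟩ := QuotientGroup.mk'_surjective _ q
      exact ⟨⟨_, mem_map_of_mem _ (mem_top x)⟩, rfl⟩

end CfsgLib.Involutions.OutOmega
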