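import Cfsg.Agent.Lib.Involutions.OutOmega.Quad
import Cfsg.Agent.Lib.PGroups.Basic

/-!
A perfect group acting on a 2-group, fixing every involution of it, acts trivially as soon as
those involutions commute.
-/

set_option autoImplicit false
set_option linter.style.haveILetI false
set_option linter.unusedSectionVars false

namespace CfsgLib.Involutions.OutOmega

open Subgroup
open scoped commutatorElement

universe u

variable {X : Type u} [Group X] [Finite X]

theorem conj_mem_comm {K A B : Subgroup X} (hA : K ≤ normalizer (A : Set X))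
    (hB : K ≤ normalizer (B : Set X)) : K ≤ normalizer ((⁅A, B⁆ : Subgroup X) : Set X) := by
  intro k hk
  refine mem_normalizer_iff_map_conj_eq.2 ?_
  rw [map_commutator, mem_normalizer_iff_map_conj_eq.1 (hA hk),
    mem_normalizer_iff_map_conj_eq.1 (hB hk)]

theorem commutator_comm_bot {A B : Subgroup X} : ⁅A, B⁆ = ⊥ ↔ ⁅B, A⁆ = ⊥ := by
  rw [commutator_comm]

set_option maxHeartbeats 1000000 in
/-- A perfect group of automorphisms which fixes each involution of a `2`-group fixes the
`2`-group. -/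
theorem le_centralizer_of_fix_involutions {K T : Subgroup X} (hK : ⁅K, K⁆ = K)
    (hT : IsPGroup 2 T) (hKT : K ≤ normalizer (T : Set X))
    (hfix : ∀ x ∈ T, x * x = 1 → ∀ k ∈ K, k * x = x * k) : K ≤ centralizer (T : Set X) := by
  classical
  haveI : Fact (Nat.Prime 2) := ⟨Nat.prime_two⟩
  by_contra hbad
  obtain ⟨R, ⟨hRT, hKR, hRbad⟩, hmin⟩ := (wellFounded_lt (α := Subgroup X)).has_min
    {R : Subgroup X | R ≤ T ∧ K ≤ normalizer (R : Set X) ∧ ¬ K ≤ centralizer (R : Set X)}
    ⟨T, le_rfl, hKT, hbad⟩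
  have hsmall : ∀ R' < R, K ≤ normalizer (R' : Set X) → ⁅R', K⁆ = ⊥ := by
    intro R' hlt hn
    rw [commutator_comm, commutator_eq_bot_iff_le_centralizer]
    by_contra h
    exact hmin R' ⟨hlt.le.trans hRT, hn, h⟩ hlt
  have hRne : ⁅R, K⁆ ≠ ⊥ := fun h => hRbad (by
    rwa [commutator_comm, commutator_eq_bot_iff_le_centralizer] at h)
  have hYR : ⁅R, K⁆ = R := by
    have hle : ⁅R, K⁆ ≤ R := commutator_le.2 fun r hr k hk => by
      have h1 := (mem_normalizer_iff.1 (hKR hk) r⁻¹).1 (inv_mem hr)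
      rw [commutatorElement_def, mul_assoc, mul_assoc]
      exact mul_mem hr (by rwa [← mul_assoc] )
    by_contra hne
    have h0 := hsmall _ (lt_of_le_of_ne hle hne) (conj_mem_comm hKR le_normalizer)
    refine hRne ?_
    rw [commutator_comm, ← hK]
    refine commutator_commutator_eq_bot_of_rotate ?_ ?_
    · rw [commutator_comm K R]; exact h0
    · exact h0
  -- the fixed points
  let C : Subgroup X := R ⊓ centralizer (K : Set X)
  have hCR : C ≤ R := inf_le_left
  have hCK : ∀ c ∈ C, ∀ k ∈ K, k * c = c * k := fun c hc k hk =>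
    (mem_centralizer_iff.1 hc.2 k hk)
  have hCbot : ⁅C, K⁆ = ⊥ := commutator_eq_bot_iff_le_centralizer.2 inf_le_right
  have hCne : C < R := lt_of_le_of_ne hCR fun h => hRne (h ▸ hCbot)
  have hinv_le : ∀ R' : Subgroup X, R' < R → K ≤ normalizer (R' : Set X) → R' ≤ C :=
    fun R' hlt hn => le_inf hlt.le (commutator_eq_bot_iff_le_centralizer.1 (hsmall R' hlt hn))
  set Φ := (frattini R).map R.subtype with hΦ
  have hRp : IsPGroup 2 R := hT.to_le hRT
  have hKΦ : K ≤ normalizer (Φ : Set X) := by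
    intro k hk
    haveI : (frattini R).Characteristic := inferInstance
    exact CfsgLib.Base.normalizer_le_normalizer_map_subtype R (frattini R) (hKR hk)
  have hΦlt : Φ < R := by
    refine lt_of_le_of_ne (map_subtype_le _) fun h => ?_
    haveI : Nontrivial R := (nontrivial_iff_ne_bot R).2 fun h0 => hRne (by rw [h0, commutator_bot_left])
    refine CfsgLib.PGroups.frattini_ne_top (G := R) (map_injective R.subtype_injective ?_)
    rw [← hΦ, h, ← MonoidHom.range_eq_map, range_subtype]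
  have hΦC : Φ ≤ C := hinv_le Φ hΦlt hKΦ
  have hcomC : ∀ x ∈ R, ∀ y ∈ R, ⁅x, y⁆ ∈ C := fun x hx y hy => hΦC
    ⟨⁅(⟨x, hx⟩ : R), ⟨y, hy⟩⁆, CfsgLib.PGroups.commutator_le_frattini hRp
      (commutator_mem_commutator (mem_top _) (mem_top _)), rfl⟩
  have hsqC : ∀ x ∈ R, x * x ∈ C := fun x hx => hΦC
    ⟨(⟨x, hx⟩ : R) ^ 2, CfsgLib.PGroups.pow_mem_frattini hRp _, by simp [pow_two]⟩
  have hcen : ∀ c ∈ C, ∀ x ∈ R, x * c = c * x := by
    have h1 : ⁅⁅R, C⁆, K⁆ = ⊥ := eq_bot_iff.2 (by
      rw [← hCbot]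
      exact commutator_mono (commutator_le.2 fun a ha b hb => hcomC a ha b (hCR hb)) le_rfl)
    have h2 : ⁅⁅C, K⁆, R⁆ = ⊥ := by rw [hCbot, commutator_bot_left]
    have h3 : ⁅⁅K, R⁆, C⁆ = ⊥ := commutator_commutator_eq_bot_of_rotate h1 h2
    rw [commutator_comm K R, hYR, commutator_eq_bot_iff_le_centralizer] at h3
    exact fun c hc x hx => (mem_centralizer_iff.1 (h3 hx) c hc).symm
  -- the quotient and the squares
  haveI hCn : (C.subgroupOf R).Normal := ⟨fun n hn g => by
    rw [mem_subgroupOf] at hn ⊢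
    rw [coe_mul, coe_mul, coe_inv, hcen _ hn g g.2, mul_inv_cancel_right]
    exact hn⟩
  letI : CommGroup C := { (inferInstance : Group C) with
    mul_comm := fun a b => Subtype.ext (hcen b b.2 a (hCR a.2)) }
  let sq : C →* C := powMonoidHom 2
  let Vq := R ⧸ C.subgroupOf R
  let Uq := C ⧸ sq.range
  letI : CommGroup Vq := { (inferInstance : Group Vq) with
    mul_comm := fun a b => by
      obtain ⟨x, rfl⟩ := QuotientGroup.mk_surjective a
      obtain ⟨y, rfl⟩ := QuotientGroup.mk_surjective b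
      rw [← QuotientGroup.mk_mul, ← QuotientGroup.mk_mul, QuotientGroup.eq, mem_subgroupOf]
      rw [show (x * y)⁻¹ * (y * x) = ⁅y⁻¹, x⁻¹⁆ by simp [commutatorElement_def, mul_assoc]]
      exact hcomC _ (inv_mem y.2) _ (inv_mem x.2) }
  letI : Module (ZMod 2) (Additive Vq) := AddCommGroup.zmodModule fun v => by
    obtain ⟨x, hx⟩ := QuotientGroup.mk_surjective (Additive.toMul v)
    apply Additive.toMul.injective
    rw [toMul_nsmul, toMul_zero, ← hx, pow_two, ← QuotientGroup.mk_mul, QuotientGroup.eq_one_iff,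
      mem_subgroupOf]
    exact hsqC x x.2
  letI : Module (ZMod 2) (Additive Uq) := AddCommGroup.zmodModule fun v => by
    obtain ⟨x, hx⟩ := QuotientGroup.mk_surjective (Additive.toMul v)
    apply Additive.toMul.injective
    rw [toMul_nsmul, toMul_zero, ← hx, ← QuotientGroup.mk_pow, QuotientGroup.eq_one_iff]
    exact ⟨x, rfl⟩
  let cls : R → Additive Vq := fun x => Additive.ofMul (x : Vq)
  have hsurj : ∀ v, ∃ x, cls x = v := fun v => by
    obtain ⟨x, hx⟩ := QuotientGroup.mk_surjective (Additive.toMul v)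
    exact ⟨x, congrArg Additive.ofMul hx⟩
  have hcls : ∀ x y, cls x = cls y ↔ (x : X)⁻¹ * y ∈ C := fun x y =>
    ⟨fun h => mem_subgroupOf.1 (QuotientGroup.eq.1 (Additive.ofMul.injective h)),
      fun h => congrArg Additive.ofMul (QuotientGroup.eq.2 (mem_subgroupOf.2 h))⟩
  let toU : C → Additive Uq := fun c => Additive.ofMul (c : Uq)
  have htoU : ∀ a b, toU (a * b) = toU a + toU b := fun a b => rfl
  let sqv : R → Additive Uq := fun x => toU ⟨(x : X) * x, hsqC x x.2⟩
  let com : R → R → Additive Uq := fun x y => toU ⟨⁅(x : X), (y : X)⁆, hcomC x x.2 y y.2⟩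
  have hwell : ∀ x y, cls x = cls y → sqv x = sqv y := by
    intro x y h
    set c := (x : X)⁻¹ * y with hc
    have hc' := (hcls x y).1 h
    have hy : (y : X) = x * c := by rw [hc, mul_inv_cancel_left]
    have e : (⟨(y : X) * y, hsqC y y.2⟩ : C) = ⟨(x : X) * x, hsqC x x.2⟩ * sq ⟨c, hc'⟩ := by
      apply Subtype.ext
      simp only [coe_mul, sq, powMonoidHom_apply, pow_two, hy]
      calc (x : X) * c * (x * c) = x * (c * x) * c := by group
        _ = x * (x * c) * c := by rw [hcen c hc' x x.2]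
        _ = _ := by group
    change toU _ = toU _
    rw [e, htoU, show toU (sq ⟨c, hc'⟩) = 0 from congrArg Additive.ofMul
      ((QuotientGroup.eq_one_iff _).2 ⟨_, rfl⟩), add_zero]
  have hcom : ∀ x y x' y', cls x = cls x' → cls y = cls y' → com x y = com x' y' := by
    intro x y x' y' h h'
    have hc := (hcls x x').1 h
    have hd := (hcls y y').1 h'
    refine congrArg toU (Subtype.ext ?_)
    set c := (x : X)⁻¹ * x' with hcdef
    set d := (y : X)⁻¹ * y' with hddef
    have hx' : (x' : X) = x * c := by rw [hcdef, mul_inv_cancel_left]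
    have hy' : (y' : X) = y * d := by rw [hddef, mul_inv_cancel_left]
    simp only [commutatorElement_def, hx', hy', mul_inv_rev]
    have hdi : (x : X)⁻¹ * d = d * (x : X)⁻¹ := hcen d hd _ (inv_mem x.2)
    have hdc : c⁻¹ * d = d * c⁻¹ := hcen d hd _ (hCR (inv_mem hc))
    symm
    calc (x : X) * c * (y * d) * (c⁻¹ * (x : X)⁻¹) * (d⁻¹ * (y : X)⁻¹)
        = x * (c * y) * (d * c⁻¹) * (x : X)⁻¹ * d⁻¹ * (y : X)⁻¹ := by group
      _ = x * (y * c) * (c⁻¹ * d) * (x : X)⁻¹ * d⁻¹ * (y : X)⁻¹ := by rw [hcen c hc y y.2, hdc]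
      _ = x * y * (d * (x : X)⁻¹) * d⁻¹ * (y : X)⁻¹ := by group
      _ = x * y * ((x : X)⁻¹ * d) * d⁻¹ * (y : X)⁻¹ := by rw [hdi]
      _ = _ := by group
  let sec : Additive Vq → R := fun v => (hsurj v).choose
  have hsec : ∀ v, cls (sec v) = v := fun v => (hsurj v).choose_spec
  let q : Additive Vq → Additive Uq := fun v => sqv (sec v)
  let β : Additive Vq → Additive Vq → Additive Uq := fun u v => com (sec u) (sec v)
  have hq : ∀ x, q (cls x) = sqv x := fun x => hwell _ _ (hsec _)
  have hβ : ∀ x y, β (cls x) (cls y) = com x y := fun x y => hcom _ _ _ _ (hsec _) (hsec _)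
  have hadd : ∀ u v, q (u + v) = q u + q v + β u v := by
    intro u v
    obtain ⟨x, rfl⟩ := hsurj u
    obtain ⟨y, rfl⟩ := hsurj v
    rw [show cls x + cls y = cls (x * y) from rfl, hq, hq, hq, hβ]
    have e : (⟨((x * y : R) : X) * (x * y : R), hsqC _ (x * y).2⟩ : C) =
        ⟨(x : X) * x, hsqC x x.2⟩ * ⟨(y : X) * y, hsqC y y.2⟩ *
          (⟨⁅(x : X), (y : X)⁆, hcomC x x.2 y y.2⟩)⁻¹ := by
      apply Subtype.ext
      simp only [coe_mul, coe_inv, commutatorElement_inv]
      have h1 : (y : X) * x = ⁅(y : X), (x : X)⁆ * (x * y) := by simp [commutatorElement_def, mul_assoc]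
      have hw := hcomC y y.2 x x.2
      calc (x : X) * y * (x * y) = x * (y * x) * y := by group
        _ = (x * ⁅(y : X), (x : X)⁆) * (x * y) * y := by rw [h1]; group
        _ = ⁅(y : X), (x : X)⁆ * (x * x * (y * y)) := by rw [hcen _ hw x x.2]; group
        _ = _ := (hcen _ hw _ (mul_mem (mul_mem x.2 x.2) (mul_mem y.2 y.2))).symm
    change toU _ = toU _ + toU _ + toU _
    rw [e, htoU, htoU]
    congr 1
    have hneg : ∀ a : Additive Uq, -a = a := fun a => neg_eq_of_add_eq_zero_left (add_self a)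
    exact hneg (toU _)
  have hr : ∀ u v w, β u (v + w) = β u v + β u w := by
    intro u v w
    obtain ⟨x, rfl⟩ := hsurj u
    obtain ⟨y, rfl⟩ := hsurj v
    obtain ⟨z, rfl⟩ := hsurj w
    rw [show cls y + cls z = cls (y * z) from rfl, hβ, hβ, hβ]
    change toU _ = toU _ + toU _
    rw [← htoU]
    refine congrArg toU (Subtype.ext ?_)
    have hw := hcomC x x.2 z z.2
    simp only [coe_mul]
    calc ⁅(x : X), (y : X) * z⁆ = ⁅(x : X), (y : X)⁆ * ((y : X) * ⁅(x : X), (z : X)⁆) * (y : X)⁻¹ := by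
          simp [commutatorElement_def, mul_assoc]
      _ = ⁅(x : X), (y : X)⁆ * (⁅(x : X), (z : X)⁆ * (y : X)) * (y : X)⁻¹ := by rw [hcen _ hw y y.2]
      _ = _ := by group
  have hinj : ∀ v, q v = 0 → v = 0 := by
    intro v hv
    obtain ⟨x, rfl⟩ := hsurj v
    rw [hq] at hv
    obtain ⟨⟨c, hc⟩, hce⟩ := (QuotientGroup.eq_one_iff _).1 (Additive.ofMul.injective hv)
    have hce' : c * c = (x : X) * x := by
      have := congrArg Subtype.val hce
      simpa [sq, pow_two] using this
    have hy : (x : X) * c⁻¹ ∈ T := mul_mem (hRT x.2) (inv_mem (hRT (hCR hc)))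
    have hy2 : (x : X) * c⁻¹ * ((x : X) * c⁻¹) = 1 := by
      calc (x : X) * c⁻¹ * ((x : X) * c⁻¹) = x * (c⁻¹ * x) * c⁻¹ := by group
        _ = x * ((x : X) * c⁻¹) * c⁻¹ := by rw [hcen _ (inv_mem hc) x x.2]
        _ = (x : X) * x * (c * c)⁻¹ := by group
        _ = 1 := by rw [hce', mul_inv_cancel]
    refine congrArg Additive.ofMul ((QuotientGroup.eq_one_iff _).2 (mem_subgroupOf.2 ⟨x.2, ?_⟩))
    have h1 : (x : X) * c⁻¹ ∈ centralizer (K : Set X) :=
      mem_centralizer_iff.2 fun k hk => hfix _ hy hy2 k hk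
    simpa using mul_mem h1 hc.2
  -- the action
  let actR : ↥K → R → R := fun k x =>
    ⟨(k : X) * x * (k : X)⁻¹, (mem_normalizer_iff.1 (hKR k.2) x).1 x.2⟩
  have hact_cls : ∀ (k : ↥K) x y, cls x = cls y → cls (actR k x) = cls (actR k y) := by
    intro k x y h
    rw [hcls] at h ⊢
    have e : ((actR k x : R) : X)⁻¹ * (actR k y : R) = (x : X)⁻¹ * y := by
      calc ((actR k x : R) : X)⁻¹ * (actR k y : R) = (k : X) * ((x : X)⁻¹ * y) * (k : X)⁻¹ := by
            simp [actR, mul_assoc]
        _ = _ := by rw [hCK _ h k k.2, mul_inv_cancel_right]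
    rwa [e]
  let Rk : ↥K → Additive Vq →+ Additive Vq := fun k => AddMonoidHom.mk' (fun v => cls (actR k (sec v)))
    fun u v => by
      obtain ⟨x, rfl⟩ := hsurj u
      obtain ⟨y, rfl⟩ := hsurj v
      rw [hact_cls k _ _ (hsec (cls x)), hact_cls k _ _ (hsec (cls y)),
        show cls x + cls y = cls (x * y) from rfl, hact_cls k _ _ (hsec (cls (x * y)))]
      refine congrArg cls (Subtype.ext ?_)
      simp [actR, mul_assoc]
  let ρ : ↥K →* Module.End (ZMod 2) (Additive Vq) :=
    { toFun := fun k => (Rk k).toZModLinearMap 2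
      map_one' := LinearMap.ext fun v => by
        change cls (actR 1 (sec v)) = v
        rw [show actR 1 (sec v) = sec v from Subtype.ext (by simp [actR])]
        exact hsec v
      map_mul' := fun k l => LinearMap.ext fun v => by
        change cls (actR (k * l) (sec v)) = cls (actR k (sec (cls (actR l (sec v)))))
        rw [hact_cls k _ _ (hsec (cls (actR l (sec v))))]
        refine congrArg cls (Subtype.ext ?_)
        simp [actR, mul_assoc] }
  have hρ : ∀ k x, ρ k (cls x) = cls (actR k x) := fun k x => hact_cls k _ _ (hsec _)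
  -- restrict to the span of the values
  set U₀ := Submodule.span (ZMod 2) (Set.range q) with hU₀
  let q₀ : Additive Vq → U₀ := fun v => ⟨q v, Submodule.subset_span ⟨v, rfl⟩⟩
  have hβ0 : ∀ u v, β u v ∈ U₀ := fun u v => by
    have : β u v = q (u + v) - q u - q v := by rw [hadd]; abel
    rw [this]
    exact sub_mem (sub_mem (Submodule.subset_span ⟨_, rfl⟩) (Submodule.subset_span ⟨_, rfl⟩))
      (Submodule.subset_span ⟨_, rfl⟩)
  haveI : Nontrivial (Additive Vq) := by
    obtain ⟨x, hxR, hxC⟩ := SetLike.exists_of_lt hCne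
    exact ⟨⟨cls ⟨x, hxR⟩, 0, fun h => hxC (mem_subgroupOf.1
      ((QuotientGroup.eq_one_iff _).1 (Additive.ofMul.injective h)))⟩⟩
  haveI : Finite (Additive Vq) := inferInstanceAs (Finite Vq)
  haveI : Finite (Additive Uq) := inferInstanceAs (Finite Uq)
  -- pass to a faithful quotient
  let ρu : ↥K →* (Module.End (ZMod 2) (Additive Vq))ˣ := ρ.toHomUnits
  let K' := ↥K ⧸ ρu.ker
  let ρ' : K' →* Module.End (ZMod 2) (Additive Vq) :=
    (Units.coeHom (Module.End (ZMod 2) (Additive Vq))).comp (QuotientGroup.kerLift ρu)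
  have hρ'i : Function.Injective ρ' := fun a b h =>
    QuotientGroup.kerLift_injective ρu (Units.ext h)
  have hperfK : commutator ↥K = ⊤ := by
    apply map_injective K.subtype_injective
    rw [map_subtype_commutator, hK, ← MonoidHom.range_eq_map, range_subtype]
  have hperf : commutator K' = ⊤ := by
    rw [commutator_def, ← map_top_of_surjective _ (QuotientGroup.mk'_surjective ρu.ker),
      ← map_commutator, ← commutator_def, hperfK]
  have hirr : Irred (Set.range ρ') := by
    intro W hW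
    let R' : Subgroup X :=
      { carrier := {x | ∃ h : x ∈ R, cls ⟨x, h⟩ ∈ W}
        one_mem' := ⟨one_mem R, W.zero_mem⟩
        mul_mem' := fun {a b} ha hb =>
          Exists.elim ha fun ha ha' => Exists.elim hb fun hb hb' => ⟨mul_mem ha hb, W.add_mem ha' hb'⟩
        inv_mem' := fun {a} ha => Exists.elim ha fun ha ha' => ⟨inv_mem ha, W.neg_mem ha'⟩ }
    have hR'R : R' ≤ R := fun x hx => Exists.elim hx fun h _ => h
    have hn : K ≤ normalizer (R' : Set X) := by
      have hfwd : ∀ k ∈ K, ∀ x ∈ R', k * x * k⁻¹ ∈ R' := by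
        rintro k hk x ⟨hx, hx'⟩
        refine ⟨(actR ⟨k, hk⟩ ⟨x, hx⟩).2, ?_⟩
        change cls (actR ⟨k, hk⟩ ⟨x, hx⟩) ∈ W
        rw [← hρ]
        exact hW _ ⟨(⟨k, hk⟩ : K), rfl⟩ _ hx'
      intro k hk
      refine mem_normalizer_iff.2 fun x => ⟨hfwd k hk x, fun h => ?_⟩
      have := hfwd k⁻¹ (inv_mem hk) _ h
      simpa [mul_assoc] using this
    rcases hR'R.lt_or_eq with hlt | heq
    · left
      rw [eq_bot_iff]
      intro v hv
      obtain ⟨x, rfl⟩ := hsurj v
      exact (Submodule.mem_bot _).2 (congrArg Additive.ofMul ((QuotientGroup.eq_one_iff _).2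
        (mem_subgroupOf.2 (hinv_le R' hlt hn ⟨x.2, hv⟩))))
    · right
      rw [eq_top_iff]
      intro v _
      obtain ⟨x, rfl⟩ := hsurj v
      obtain ⟨_, h⟩ := (heq.symm ▸ x.2 : (x : X) ∈ R')
      exact h
  have hinv : ∀ k v, q₀ (ρ' k v) = q₀ v := by
    intro k v
    obtain ⟨k, rfl⟩ := QuotientGroup.mk_surjective k
    obtain ⟨x, rfl⟩ := hsurj v
    refine Subtype.ext ?_
    change q (ρ k (cls x)) = q (cls x)
    rw [hρ, hq, hq]
    refine congrArg toU (Subtype.ext ?_)
    calc (k : X) * x * (k : X)⁻¹ * ((k : X) * x * (k : X)⁻¹) = k * ((x : X) * x) * (k : X)⁻¹ := by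
          group
      _ = _ := by rw [hCK _ (hsqC x x.2) k k.2, mul_inv_cancel_right]
  have hsub := subsingleton_of_quadratic (V := Additive Vq) (U := U₀) ρ' hρ'i
    hperf hirr q₀ (fun u v => ⟨β u v, hβ0 u v⟩) (fun u v => Subtype.ext (hadd u v))
    (fun u v w => Subtype.ext (hr u v w)) (fun v hv => hinj v (congrArg Subtype.val hv))
    (by
      apply Submodule.map_injective_of_injective U₀.subtype_injective
      rw [Submodule.map_span, Submodule.map_top, Submodule.range_subtype, ← Set.range_comp]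
      rfl)
    hinv
  -- the action on `R ⧸ C` is trivial
  have htriv : ⁅R, K⁆ ≤ C := commutator_le.2 fun r hr' k hk => by
    have h1 : cls (actR ⟨k, hk⟩ ⟨r, hr'⟩) = cls ⟨r, hr'⟩ := by
      rw [← hρ, show ρ (⟨k, hk⟩ : K) = ρ' (QuotientGroup.mk (⟨k, hk⟩ : K)) from rfl,
        Subsingleton.elim (QuotientGroup.mk (⟨k, hk⟩ : K)) (1 : K'), map_one, Module.End.one_apply]
    rw [hcls] at h1
    have h2 : (k * r * k⁻¹)⁻¹ * r ∈ C := h1
    have h3 : ⁅r, k⁆ = r * ((k * r * k⁻¹)⁻¹ * r) * r⁻¹ := by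
      simp [commutatorElement_def, mul_assoc]
    rw [h3, hcen _ h2 r hr', mul_inv_cancel_right]
    exact h2
  exact hCne.not_ge (hYR ▸ htriv)

end CfsgLib.Involutions.OutOmega
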