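import Cfsg.Agent.Lib.Involutions.OutOmega.Commutant
import Cfsg.Agent.Lib.PGroups.InvolutionSubgroup
import Cfsg.Agent.Lib.Involutions.CentralizedSylowSolvable
import Cfsg.Agent.Lib.FT.OddOrderTheorem

/-!
An irreducible group of transformations of `F₂^n` leaving an anisotropic quadratic map invariant
is solvable, so a perfect one is trivial.
-/

set_option autoImplicit false
set_option linter.style.haveILetI false
set_option linter.unusedSectionVars false

namespace CfsgLib.Involutions.OutOmega

universe u

variable {V : Type*} [AddCommGroup V] [Module (ZMod 2) V] [Finite V]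
variable {U : Type*} [AddCommGroup U] [Module (ZMod 2) U] [Finite U]

theorem add_self (v : V) : v + v = 0 := by
  rw [← two_smul (ZMod 2) v, show (2 : ZMod 2) = 0 from rfl, zero_smul]

/-- The bilinear part of a quadratic map. -/
theorem beta_comm {q : V → U} {β : V → V → U} (hadd : ∀ u v, q (u + v) = q u + q v + β u v)
    (u v : V) : β u v = β v u := by
  have h1 := hadd u v
  rw [add_comm u v, hadd v u, add_comm (q v) (q u)] at h1
  exact (add_left_cancel h1).symm

theorem beta_self {q : V → U} {β : V → V → U} (hadd : ∀ u v, q (u + v) = q u + q v + β u v)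
    (hr : ∀ u v w, β u (v + w) = β u v + β u w) (u : V) : β u u = 0 := by
  have hb0 : β 0 0 = 0 := by
    have h := hr 0 0 0
    rw [add_zero] at h
    exact left_eq_add.mp h
  have hq0 : q 0 = 0 := by
    have h := hadd 0 0
    rw [add_zero, hb0, add_zero] at h
    exact left_eq_add.mp h
  have h := hadd u u
  rw [add_self, hq0, add_self, zero_add] at h
  exact h.symm

theorem q_zero {q : V → U} {β : V → V → U} (hadd : ∀ u v, q (u + v) = q u + q v + β u v)
    (hr : ∀ u v w, β u (v + w) = β u v + β u w) : q 0 = 0 := by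
  have h := hadd 0 0
  rw [add_zero, beta_self hadd hr, add_zero] at h
  exact left_eq_add.mp h

/-- The form attached to a functional on the values. -/
noncomputable def form {q : V → U} {β : V → V → U}
    (hadd : ∀ u v, q (u + v) = q u + q v + β u v)
    (hr : ∀ u v w, β u (v + w) = β u v + β u w) :
    Module.Dual (ZMod 2) U →ₗ[ZMod 2] V →ₗ[ZMod 2] Module.Dual (ZMod 2) V :=
  (AddMonoidHom.mk' (fun l => (AddMonoidHom.mk' (fun x => (AddMonoidHom.mk' (fun y => l (β x y))
      (fun y z => by rw [hr, map_add])).toZModLinearMap 2)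
      (fun x y => LinearMap.ext fun z => by
        change l (β (x + y) z) = l (β x z) + l (β y z)
        rw [beta_comm hadd (x + y), hr, map_add, beta_comm hadd z x, beta_comm hadd z y])).toZModLinearMap 2)
    (fun l m => LinearMap.ext fun x => LinearMap.ext fun y => rfl)).toZModLinearMap 2

theorem form_apply {q : V → U} {β : V → V → U}
    (hadd : ∀ u v, q (u + v) = q u + q v + β u v)
    (hr : ∀ u v w, β u (v + w) = β u v + β u w) (l : Module.Dual (ZMod 2) U) (x y : V) :
    form hadd hr l x y = l (β x y) := rfl

variable {K : Type u} [Group K] [Finite K]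

theorem R_inj (R : K →* Module.End (ZMod 2) V) (k : K) : Function.Injective (R k) := by
  refine Function.LeftInverse.injective (g := R k⁻¹) fun v => ?_
  rw [← Module.End.mul_apply, ← map_mul, inv_mul_cancel, map_one, Module.End.one_apply]

/-- A perfect group with an invariant anisotropic quadratic map on an irreducible faithful module
is trivial. -/
theorem subsingleton_of_quadratic [Nontrivial V] (R : K →* Module.End (ZMod 2) V)
    (hR : Function.Injective R) (hperf : commutator K = ⊤) (hirr : Irred (Set.range R))
    (q : V → U) (β : V → V → U) (hadd : ∀ u v, q (u + v) = q u + q v + β u v)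
    (hr : ∀ u v w, β u (v + w) = β u v + β u w) (hinj : ∀ v, q v = 0 → v = 0)
    (hspan : Submodule.span (ZMod 2) (Set.range q) = ⊤)
    (hinv : ∀ k v, q (R k v) = q v) : Subsingleton K := by
  classical
  by_contra hK
  rw [not_subsingleton_iff_nontrivial] at hK
  set E := Comm (Set.range R)
  haveI : Finite E := finite_comm _
  haveI := isDomain hirr
  have hβinv : ∀ k x y, β (R k x) (R k y) = β x y := by
    intro k x y
    have h1 := hadd (R k x) (R k y)
    rw [← map_add, hinv, hinv, hinv, hadd] at h1
    exact (add_left_cancel h1).symm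
  -- the functions commuting with the action are determined by one value
  have hnab : ¬ ∀ a b : K, a * b = b * a := by
    intro hc
    obtain ⟨x, hx⟩ := exists_ne (1 : K)
    have : commutator K = ⊥ := by
      rw [commutator_def, Subgroup.commutator_eq_bot_iff_le_centralizer]
      exact fun a _ => Subgroup.mem_centralizer_iff.2 fun b _ => hc b a
    exact hx (Subgroup.mem_bot.1 (this ▸ hperf ▸ Subgroup.mem_top x))
  -- no orbit of the commutant is everything
  have hEv : ∀ v : V, ∃ u, ∀ c : E, (c : Module.End (ZMod 2) V) v ≠ u := by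
    intro v
    by_contra h
    push Not at h
    apply hnab
    intro a b
    obtain ⟨c, hc⟩ := h (R a v)
    refine hR ?_
    rw [map_mul, map_mul]
    refine LinearMap.ext fun x => ?_
    obtain ⟨d, hd⟩ := h x
    subst hd
    have ha : ∀ d : E, R a ((d : Module.End (ZMod 2) V) v) = (c : Module.End (ZMod 2) V) ((d : Module.End (ZMod 2) V) v) := by
      intro d
      rw [comm_apply d ⟨a, rfl⟩, ← hc, ← Module.End.mul_apply, ← Module.End.mul_apply,
        ← Subalgebra.coe_mul, ← Subalgebra.coe_mul, mul_comm' hirr]
    simp only [Module.End.mul_apply]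
    rw [comm_apply d ⟨b, rfl⟩]
    obtain ⟨e, he⟩ := h (R b v)
    rw [← he, ← Module.End.mul_apply (d : Module.End (ZMod 2) V) (e : Module.End (ZMod 2) V),
      ← Subalgebra.coe_mul, ha, ha d, Subalgebra.coe_mul, Module.End.mul_apply]
    rw [comm_apply c ⟨b, rfl⟩, comm_apply d ⟨b, rfl⟩, he]
  -- a fixed vector of a Sylow `2`-subgroup
  obtain ⟨P⟩ : Nonempty (Sylow 2 K) := inferInstance
  obtain ⟨w, hw, hw0⟩ : ∃ w : V, (∀ p ∈ (P : Subgroup K), R p w = w) ∧ w ≠ 0 := by
    letI : MulAction (P : Subgroup K) V :=
      { smul := fun p v => R (p : K) v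
        one_smul := fun v => by
          show R ((1 : (P : Subgroup K)) : K) v = v
          rw [Subgroup.coe_one, map_one, Module.End.one_apply]
        mul_smul := fun p r v => by
          show R ((p * r : (P : Subgroup K)) : K) v = R (p : K) (R (r : K) v)
          rw [Subgroup.coe_mul, map_mul, Module.End.mul_apply] }
    have h2 : 2 ∣ Nat.card V := by
      rw [Module.natCard_eq_pow_finrank (K := ZMod 2), Nat.card_zmod]
      exact dvd_pow_self 2 Module.finrank_pos.ne'
    obtain ⟨w, hw, hne⟩ := P.isPGroup'.exists_fixed_point_of_prime_dvd_card_of_fixed_point (α := V)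
      h2 (a := 0) (fun p => map_zero (R (p : K)))
    exact ⟨w, fun p hp => hw ⟨p, hp⟩, Ne.symm hne⟩
  obtain ⟨u, hu⟩ := hEv w
  -- the plane spanned by `w` and `u`
  let f : E × E → V := fun c => (c.1 : Module.End (ZMod 2) V) w + (c.2 : Module.End (ZMod 2) V) u
  have hf : Function.Injective f := by
    rintro ⟨a, b⟩ ⟨a', b'⟩ h
    change (a : Module.End (ZMod 2) V) w + (b : Module.End (ZMod 2) V) u =
      (a' : Module.End (ZMod 2) V) w + (b' : Module.End (ZMod 2) V) u at h
    have h1 : ((a - a' : E) : Module.End (ZMod 2) V) w = ((b' - b : E) : Module.End (ZMod 2) V) u := by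
      simp only [Subalgebra.coe_sub, LinearMap.sub_apply]
      rw [sub_eq_sub_iff_add_eq_add, h, add_comm]
    have hb : b = b' := by
      by_contra hb
      obtain ⟨e, he⟩ := exists_inv hirr (sub_ne_zero.2 (Ne.symm hb))
      refine hu (e * (a - a')) ?_
      rw [Subalgebra.coe_mul, Module.End.mul_apply, h1, ← Module.End.mul_apply, ← Subalgebra.coe_mul,
        mul_comm' hirr, he]
      rfl
    subst hb
    rw [sub_self, show ((0 : E) : Module.End (ZMod 2) V) u = 0 from rfl] at h1
    have : a = a' := smul_injective hirr hw0 (by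
      simpa [sub_eq_zero] using h1)
    rw [this]
  -- the functionals embed into the commutant
  set F := form hadd hr
  have hkermem : ∀ (l : Module.Dual (ZMod 2) U) (k : K) x, x ∈ LinearMap.ker (F l) →
      R k x ∈ LinearMap.ker (F l) := by
    intro l k x hx
    rw [LinearMap.mem_ker] at hx ⊢
    ext y
    have h1 := hβinv k x (R k⁻¹ y)
    rw [← Module.End.mul_apply, ← map_mul, mul_inv_cancel, map_one, Module.End.one_apply] at h1
    have h2 : l (β x (R k⁻¹ y)) = 0 := LinearMap.congr_fun hx _
    simp only [F, form_apply, LinearMap.zero_apply]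
    rw [h1, h2]
  have hF : ∀ l, F l = 0 → l = 0 := by
    intro l hl
    let A : V →ₗ[ZMod 2] ZMod 2 := (AddMonoidHom.mk' (fun v => l (q v)) fun x y => by
      rw [hadd, map_add, map_add, show l (β x y) = 0 from LinearMap.congr_fun (LinearMap.congr_fun hl x) y,
        add_zero]).toZModLinearMap 2
    have hA : ∀ k v, A (R k v) = A v := fun k v => congrArg l (hinv k v)
    let W := Submodule.span (ZMod 2) {x : V | ∃ k v, x = R k v - v}
    have hW : W = ⊤ := by
      refine (hirr W ?_).resolve_left ?_
      · rintro _ ⟨k, rfl⟩ x hx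
        induction hx using Submodule.span_induction with
        | mem x hx =>
          obtain ⟨k', v, rfl⟩ := hx
          have e : R k (R k' v - v) = (R (k * k') v - v) - (R k v - v) := by
            rw [map_sub, map_mul, Module.End.mul_apply]; abel
          rw [e]
          exact sub_mem (Submodule.subset_span ⟨_, v, rfl⟩) (Submodule.subset_span ⟨_, v, rfl⟩)
        | zero => rw [map_zero]; exact zero_mem _
        | add x y _ _ hx hy => rw [map_add]; exact add_mem hx hy
        | smul a x _ hx => rw [map_smul]; exact W.smul_mem a hx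
      · intro hbot
        obtain ⟨x, hx⟩ := exists_ne (1 : K)
        refine hx (hR (LinearMap.ext fun v => ?_))
        have : R x v - v ∈ W := Submodule.subset_span ⟨x, v, rfl⟩
        rw [hbot, Submodule.mem_bot, sub_eq_zero] at this
        rw [this, map_one, Module.End.one_apply]
    have hA0 : ∀ v, A v = 0 := by
      intro v
      have : W ≤ LinearMap.ker A := Submodule.span_le.2 (by
        rintro _ ⟨k, v, rfl⟩
        simp [hA])
      exact this (hW ▸ Submodule.mem_top)
    refine LinearMap.ext fun z => ?_
    have : Submodule.span (ZMod 2) (Set.range q) ≤ LinearMap.ker l :=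
      Submodule.span_le.2 (by rintro _ ⟨v, rfl⟩; exact hA0 v)
    exact this (hspan ▸ Submodule.mem_top)
  have hU : Nontrivial U := by
    refine ⟨⟨q w, 0, fun h => hw0 (hinj w h)⟩⟩
  obtain ⟨l₀, hl₀⟩ := exists_ne (0 : Module.Dual (ZMod 2) U)
  have hinjF : ∀ l, l ≠ 0 → Function.Injective (F l) := fun l hl => by
    refine LinearMap.ker_eq_bot.1 ((hirr _ ?_).resolve_right fun h => hl (hF l (LinearMap.ker_eq_top.1 h)))
    rintro _ ⟨k, rfl⟩ x hx
    exact hkermem l k x hx
  let B : V ≃ₗ[ZMod 2] Module.Dual (ZMod 2) V := LinearEquiv.ofInjectiveOfFinrankEq (F l₀)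
    (hinjF l₀ hl₀) Subspace.dual_finrank_eq.symm
  have hBapply : ∀ x y, B x y = l₀ (β x y) := fun x y => rfl
  have hφmem : ∀ l, (B.symm.toLinearMap ∘ₗ F l : Module.End (ZMod 2) V) ∈ E := by
    intro l
    rw [Subalgebra.mem_centralizer_iff]
    rintro _ ⟨k, rfl⟩
    refine LinearMap.ext fun x => ?_
    change R k (B.symm (F l x)) = B.symm (F l (R k x))
    refine B.injective ?_
    rw [LinearEquiv.apply_symm_apply]
    refine LinearMap.ext fun y => ?_
    have hy : y = R k (R k⁻¹ y) := by
      rw [← Module.End.mul_apply, ← map_mul, mul_inv_cancel, map_one, Module.End.one_apply]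
    rw [hy, hBapply, hβinv]
    change _ = l (β (R k x) (R k (R k⁻¹ y)))
    rw [hβinv, ← hBapply (B.symm (F l x)) (R k⁻¹ y), LinearEquiv.apply_symm_apply]
    rfl
  let φ : Module.Dual (ZMod 2) U → E := fun l => ⟨_, hφmem l⟩
  have hφB : ∀ l x y, l (β x y) = l₀ (β ((φ l : Module.End (ZMod 2) V) x) y) := fun l x y => by
    change _ = B (B.symm (F l x)) y
    rw [LinearEquiv.apply_symm_apply]
    rfl
  have hφinj : Function.Injective φ := by
    intro l m h
    refine sub_eq_zero.1 (hF (l - m) ?_)
    refine LinearMap.ext fun x => LinearMap.ext fun y => ?_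
    change (l - m) (β x y) = 0
    rw [LinearMap.sub_apply, hφB l, hφB m, h, sub_self]
  -- counting
  haveI : Finite (Module.Dual (ZMod 2) U) := Finite.of_injective _ DFunLike.coe_injective
  have c1 : Nat.card E * Nat.card E ≤ Nat.card V :=
    Nat.card_prod E E ▸ Nat.card_le_card_of_injective f hf
  have c2 : Nat.card (Module.Dual (ZMod 2) U) ≤ Nat.card E := Nat.card_le_card_of_injective φ hφinj
  have c3 : Nat.card V ≤ Nat.card (Module.Dual (ZMod 2) U) * Nat.card (Module.Dual (ZMod 2) U) := by
    rw [Module.natCard_eq_pow_finrank (K := ZMod 2) (V := V),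
      Module.natCard_eq_pow_finrank (K := ZMod 2) (V := Module.Dual (ZMod 2) U),
      Nat.card_zmod, Subspace.dual_finrank_eq, ← pow_add, ← two_mul]
    exact Nat.pow_le_pow_right two_pos
      (CfsgLib.PGroups.finrank_le_two_mul_of_quadratic q β hadd hr hinj)
  have c4 : Nat.card (Module.Dual (ZMod 2) U) = Nat.card E := le_antisymm c2 (by
    by_contra hlt
    push Not at hlt
    have := Nat.mul_lt_mul_of_lt_of_lt hlt hlt
    omega)
  have hφsurj : Function.Surjective φ :=
    ((Nat.bijective_iff_injective_and_card φ).2 ⟨hφinj, c4⟩).2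
  have hfsurj : Function.Surjective f :=
    ((Nat.bijective_iff_injective_and_card f).2 ⟨hf, le_antisymm
      (Nat.card_le_card_of_injective f hf) (by rw [Nat.card_prod, ← c4]; exact c3)⟩).2
  -- adjointness
  have hsym : ∀ (c : E) (x y : V), l₀ (β ((c : Module.End (ZMod 2) V) x) y) =
      l₀ (β x ((c : Module.End (ZMod 2) V) y)) := by
    intro c x y
    obtain ⟨l, rfl⟩ := hφsurj c
    rw [← hφB, beta_comm hadd, hφB, beta_comm hadd]
  -- elements of `P`
  have hcomm : ∀ (k : K) (c : E) (v : V), R k ((c : Module.End (ZMod 2) V) v) =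
      (c : Module.End (ZMod 2) V) (R k v) := fun k c v => comm_apply c ⟨k, rfl⟩ v
  have hfix : ∀ p ∈ (P : Subgroup K), ∀ c : E,
      R p ((c : Module.End (ZMod 2) V) w) = (c : Module.End (ZMod 2) V) w := fun p hp c => by
    rw [hcomm p, hw p hp]
  have hPu : ∀ p ∈ (P : Subgroup K), ∃ a : E, R p u = u + (a : Module.End (ZMod 2) V) w := by
    intro p hp
    obtain ⟨⟨a, c⟩, hac⟩ := hfsurj (R p u)
    change (a : Module.End (ZMod 2) V) w + (c : Module.End (ZMod 2) V) u = R p u at hac
    have hiter : ∀ n : ℕ, ∃ a' : E, R (p ^ n) u =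
        (a' : Module.End (ZMod 2) V) w + ((c ^ n : E) : Module.End (ZMod 2) V) u := by
      intro n
      induction n with
      | zero => exact ⟨0, by simp⟩
      | succ n ih =>
        obtain ⟨a', ha'⟩ := ih
        refine ⟨a' + c ^ n * a, ?_⟩
        rw [pow_succ', map_mul, Module.End.mul_apply, ha', map_add, hfix p hp,
          hcomm p, ← hac, map_add, pow_succ, Subalgebra.coe_mul, Subalgebra.coe_add,
          Subalgebra.coe_mul, LinearMap.add_apply, Module.End.mul_apply, Module.End.mul_apply]
        abel
    obtain ⟨j, hj⟩ := P.isPGroup' ⟨p, hp⟩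
    have hpj : p ^ (2 ^ j) = 1 := congrArg Subtype.val hj
    obtain ⟨a', ha'⟩ := hiter (2 ^ j)
    rw [hpj, map_one, Module.End.one_apply] at ha'
    have hcj : c ^ (2 ^ j) = 1 := by
      have h := @hf (a', c ^ (2 ^ j)) (0, 1) (by
        change (a' : Module.End (ZMod 2) V) w + ((c ^ (2 ^ j) : E) : Module.End (ZMod 2) V) u =
          ((0 : E) : Module.End (ZMod 2) V) w + ((1 : E) : Module.End (ZMod 2) V) u
        rw [← ha']; simp)
      exact congrArg Prod.snd h
    have hc : c = 1 := by
      have hsq : ∀ d : E, d * d = 1 → d = 1 := by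
        intro d hd
        have h0 : (d - 1) * (d - 1) = 0 := by
          have e2 : d + d = 0 := Subtype.ext (LinearMap.ext fun v => add_self _)
          calc (d - 1) * (d - 1) = d * d - (d + d) + 1 := by
                rw [sub_mul, mul_sub, one_mul, mul_one]; abel
            _ = 0 := by
              rw [hd, e2, sub_zero]
              exact Subtype.ext (LinearMap.ext fun v => add_self v)
        exact sub_eq_zero.1 ((mul_self_eq_zero).1 h0)
      clear ha' hiter hpj hj
      induction j with
      | zero => simpa using hcj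
      | succ j ih => exact ih (hsq _ (by rw [← pow_add, ← two_mul, ← pow_succ', hcj]))
    refine ⟨a, ?_⟩
    rw [← hac, hc, add_comm]
    simp
  choose! a ha using hPu
  have hzero : ∀ p ∈ (P : Subgroup K), a p = 0 → p = 1 := by
    intro p hp h
    refine hR (LinearMap.ext fun x => ?_)
    obtain ⟨⟨c, d⟩, rfl⟩ := hfsurj x
    change R p ((c : Module.End (ZMod 2) V) w + (d : Module.End (ZMod 2) V) u) = R 1 _
    rw [map_one, Module.End.one_apply, map_add, hfix p hp, hcomm p, ha p hp, h]
    simp [f]
  have hainj : ∀ p ∈ (P : Subgroup K), ∀ r ∈ (P : Subgroup K), a p = a r → p = r := by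
    intro p hp r hr' h
    have : R p = R r := by
      refine LinearMap.ext fun x => ?_
      obtain ⟨⟨c, d⟩, rfl⟩ := hfsurj x
      change R p ((c : Module.End (ZMod 2) V) w + (d : Module.End (ZMod 2) V) u) =
        R r ((c : Module.End (ZMod 2) V) w + (d : Module.End (ZMod 2) V) u)
      rw [map_add, map_add, hfix p hp, hfix r hr', hcomm p, hcomm r,
        ha p hp, ha r hr', h]
    exact hR this
  -- two different transvections with a common line are impossible
  by_cases hP : Nat.card (P : Subgroup K) ≤ 2
  · have hle : Subgroup.normalizer ((P : Subgroup K) : Set K) ≤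
        Subgroup.centralizer ((P : Subgroup K) : Set K) := by
      intro g hg
      rw [Subgroup.mem_centralizer_iff]
      intro x hx
      by_cases hx1 : x = 1
      · subst hx1; simp
      have hy : g * x * g⁻¹ ∈ (P : Subgroup K) := (Subgroup.mem_normalizer_iff.1 hg x).1 hx
      have hy1 : g * x * g⁻¹ ≠ 1 := fun h => hx1 (conj_eq_one_iff.1 h)
      have : g * x * g⁻¹ = x := by
        by_contra hne
        haveI := Fintype.ofFinite (P : Subgroup K)
        have h3 := Finset.card_le_univ ({1, ⟨x, hx⟩, ⟨g * x * g⁻¹, hy⟩} : Finset (P : Subgroup K))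
        rw [Finset.card_eq_three.2 ⟨1, ⟨x, hx⟩, ⟨g * x * g⁻¹, hy⟩,
          fun h => hx1 (congrArg Subtype.val h).symm, fun h => hy1 (congrArg Subtype.val h).symm,
          fun h => hne (congrArg Subtype.val h).symm, rfl⟩] at h3
        rw [Nat.card_eq_fintype_card] at hP
        omega
      exact (mul_inv_eq_iff_eq_mul.1 this).symm
    have hsol := CfsgLib.Involutions.CentralizedSylow.isSolvable_of_hasNormalTwoComplement
      CfsgLib.FT.oddOrderThm (CfsgLib.Transfer.hasNormalPComplement_of_normalizer_le_centralizer P hle)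
    obtain ⟨n, hn⟩ := hsol.solvable
    obtain ⟨x, hx⟩ := exists_ne (1 : K)
    have htop : ∀ m, derivedSeries K m = ⊤ := fun m => by
      induction m with
      | zero => rfl
      | succ m ih => rw [derivedSeries_succ, ih, ← commutator_def, hperf]
    refine hx (Subgroup.mem_bot.1 ?_)
    rw [← hn, htop]
    exact Subgroup.mem_top x
  push Not at hP
  obtain ⟨s, hs, hs1⟩ : ∃ s ∈ (P : Subgroup K), s ≠ 1 := by
    by_contra h
    push Not at h
    have : Subsingleton (P : Subgroup K) := ⟨fun x y => Subtype.ext (by rw [h x x.2, h y y.2])⟩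
    have := Finite.card_le_one_iff_subsingleton.2 this
    omega
  obtain ⟨t, ht, ht1, hts⟩ : ∃ t ∈ (P : Subgroup K), t ≠ 1 ∧ t ≠ s := by
    by_contra h
    push Not at h
    haveI := Fintype.ofFinite (P : Subgroup K)
    have hsub : (Finset.univ : Finset (P : Subgroup K)) ⊆ {1, ⟨s, hs⟩} := fun x _ => by
      by_cases hx : (x : K) = 1
      · exact Finset.mem_insert.2 (Or.inl (Subtype.ext hx))
      · exact Finset.mem_insert.2 (Or.inr (Finset.mem_singleton.2 (Subtype.ext (h x x.2 hx))))
    have := (Finset.card_le_card hsub).trans Finset.card_le_two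
    rw [Finset.card_univ, ← Nat.card_eq_fintype_card] at this
    omega
  have key : ∀ p ∈ (P : Subgroup K), ∀ (l : Module.Dual (ZMod 2) U) (c : E),
      l (q (((c * a p : E) : Module.End (ZMod 2) V) w)) =
        l₀ (β (((φ l * c * c * a p : E) : Module.End (ZMod 2) V) u) w) := by
    intro p hp l c
    have h1 : R p ((c : Module.End (ZMod 2) V) u) =
        (c : Module.End (ZMod 2) V) u + ((c * a p : E) : Module.End (ZMod 2) V) w := by
      rw [hcomm p, ha p hp, map_add, Subalgebra.coe_mul, Module.End.mul_apply]
    have h2 := hinv p ((c : Module.End (ZMod 2) V) u)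
    rw [h1, hadd, add_assoc, add_eq_left] at h2
    have h3 : q (((c * a p : E) : Module.End (ZMod 2) V) w) =
        β ((c : Module.End (ZMod 2) V) u) (((c * a p : E) : Module.End (ZMod 2) V) w) := by
      rw [← sub_eq_zero, sub_eq_add_neg,
        show -β ((c : Module.End (ZMod 2) V) u) (((c * a p : E) : Module.End (ZMod 2) V) w) =
          β ((c : Module.End (ZMod 2) V) u) (((c * a p : E) : Module.End (ZMod 2) V) w) from
          neg_eq_of_add_eq_zero_left (add_self (V := U) _), h2]
    rw [h3, hφB, ← hsym, ← Module.End.mul_apply, ← Module.End.mul_apply, ← Subalgebra.coe_mul,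
      ← Subalgebra.coe_mul]
    refine congrArg (fun e : E => l₀ (β ((e : Module.End (ZMod 2) V) u) w)) ?_
    letI : CommRing E := { (inferInstance : Ring E) with mul_comm := mul_comm' hirr }
    ring
  have has : a s ≠ 0 := fun h => hs1 (hzero s hs h)
  have hat : a t ≠ 0 := fun h => ht1 (hzero t ht h)
  have hab : a s + a t ≠ 0 := fun h => hts (hainj t ht s hs (by
    have e2 : ∀ d : E, d + d = 0 := fun d => Subtype.ext (LinearMap.ext fun v => add_self _)
    calc a t = (a s + a s) + a t := by rw [e2, zero_add]
      _ = a s + (a s + a t) := add_assoc _ _ _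
      _ = a s := by rw [h, add_zero]))
  have h0 : ∀ e : E, l₀ (β ((e : Module.End (ZMod 2) V) u) w) = 0 := by
    intro e
    obtain ⟨g, hg⟩ := exists_inv hirr (mul_ne_zero (mul_ne_zero has hat) hab)
    obtain ⟨l, hl⟩ := hφsurj (e * g)
    have k1 := key s hs l (a t)
    have k2 := key t ht l (a s)
    rw [mul_comm' hirr (a t) (a s)] at k1
    rw [k1] at k2
    have he : e = φ l * a t * a t * a s + φ l * a s * a s * a t := by
      haveI := isDomain hirr
      letI : CommRing E := { (inferInstance : Ring E) with mul_comm := mul_comm' hirr }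
      rw [hl]
      calc e = e * (a s * a t * (a s + a t) * g) := by rw [hg, mul_one]
        _ = _ := by ring
    have hl' : ∀ x y z, β (x + y) z = β x z + β y z := fun x y z => by
      rw [beta_comm hadd, hr, beta_comm hadd z x, beta_comm hadd z y]
    rw [he, Subalgebra.coe_add, LinearMap.add_apply, hl', map_add, k2]
    exact add_self (V := ZMod 2) _
  -- the vector `w` is orthogonal to everything
  have hwall : ∀ x, l₀ (β x w) = 0 := by
    intro x
    obtain ⟨⟨c, d⟩, rfl⟩ := hfsurj x
    change l₀ (β ((c : Module.End (ZMod 2) V) w + (d : Module.End (ZMod 2) V) u) w) = 0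
    obtain ⟨l, rfl⟩ := hφsurj c
    rw [beta_comm hadd, hr, map_add, beta_comm hadd w, beta_comm hadd w, h0, add_zero, ← hφB,
      beta_self hadd hr, map_zero]
  refine hw0 (hinjF l₀ hl₀ ?_)
  rw [map_zero]
  refine LinearMap.ext fun y => ?_
  change l₀ (β w y) = 0
  rw [beta_comm hadd, hwall]

end CfsgLib.Involutions.OutOmega
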