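import Cfsg.Agent.Lib.Involutions.OutSolvable
import Cfsg.Agent.Lib.PGroups.MetacyclicTwoAut
import Cfsg.Agent.Lib.Recog.OrderSixty

/-!
Outer automorphisms of a simple group whose Sylow 2-subgroup needs two or three generators.
-/

set_option autoImplicit false
set_option linter.style.haveILetI false
set_option linter.unusedSectionVars false

namespace CfsgLib.Involutions.OutOmega

open Cfsg Subgroup
open scoped Pointwise

universe u

section Stab

variable {G : Type u} [Group G]

/-- The automorphisms of `G` mapping `S` onto itself. -/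
def stab (S : Subgroup G) : Subgroup (MulAut G) where
  carrier := {φ | ∀ g, g ∈ S ↔ φ g ∈ S}
  one_mem' _ := Iff.rfl
  mul_mem' {φ ψ} hφ hψ g := (hψ g).trans (hφ (ψ g))
  inv_mem' {φ} hφ g := by
    have := (hφ (φ.symm g)).symm
    rwa [MulEquiv.apply_symm_apply] at this

/-- Restriction of automorphisms to `S`. -/
def restr (S : Subgroup G) : stab S →* MulAut S where
  toFun φ :=
    { toFun := fun s => ⟨φ.1 s, (φ.2 s).1 s.2⟩
      invFun := fun s => ⟨φ.1.symm s, (φ.2 _).2 (by rw [MulEquiv.apply_symm_apply]; exact s.2)⟩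
      left_inv := fun s => Subtype.ext (φ.1.symm_apply_apply s)
      right_inv := fun s => Subtype.ext (φ.1.apply_symm_apply s)
      map_mul' := fun s t => Subtype.ext (map_mul φ.1 (s : G) t) }
  map_one' := rfl
  map_mul' _ _ := rfl

theorem coe_restr (S : Subgroup G) (φ : stab S) (s : S) : ((restr S φ s : S) : G) = φ.1 s := rfl

theorem conj_mem_stab {S : Subgroup G} {g : G} (hg : g ∈ normalizer (S : Set G)) :
    MulAut.conj g ∈ stab S := fun x => mem_normalizer_iff.1 hg x

/-- Conjugation by elements of the normalizer. -/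
def conjStab (S : Subgroup G) : normalizer (S : Set G) →* stab S where
  toFun g := ⟨MulAut.conj (g : G), conj_mem_stab g.2⟩
  map_one' := Subtype.ext (map_one MulAut.conj)
  map_mul' g h := Subtype.ext (map_mul MulAut.conj (g : G) h)

end Stab

variable {G : Type u} [Group G] [Finite G]

/-- `Out G` is solvable when the automorphisms induced on `S` by those fixing it are. -/
theorem isSolvable_out_of_stab (hFT : CfsgLib.FT.OddOrderThm.{u}) [IsSimpleGroup G]
    (hG : ¬ IsMulCommutative G) (S : Sylow 2 G) (hS1 : (S : Subgroup G) ≠ ⊥)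
    (hS : Group.IsSolvable (restr (S : Subgroup G)).range) : Group.IsSolvable (Cfsg.Out G) := by
  haveI : Fact (Nat.Prime 2) := ⟨Nat.prime_two⟩
  set ι : G →* MulAut G := MulAut.conj with hι
  have hz : center G = ⊥ := by
    refine (IsSimpleGroup.eq_bot_or_eq_top_of_normal (center G) inferInstance).resolve_right
      fun h => hG ⟨⟨fun a b => ?_⟩⟩
    exact mem_center_iff.1 (h ▸ mem_top b) a
  have hinj : Function.Injective ι := by
    rw [← MonoidHom.ker_eq_bot_iff, eq_bot_iff, ← hz]
    intro g hg
    rw [mem_center_iff]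
    intro x
    have h := DFunLike.congr_fun (MonoidHom.mem_ker.1 hg) x
    rw [hι, MulAut.conj_apply, MulAut.one_apply, mul_inv_eq_iff_eq_mul] at h
    exact h.symm
  have key : ∀ (φ : MulAut G) (g : G), φ * ι g * φ⁻¹ = ι (φ g) := fun φ g => by
    ext x
    simp [hι]
  have hC : centralizer ((Inn G : Subgroup (MulAut G)) : Set (MulAut G)) = ⊥ := by
    rw [eq_bot_iff]
    intro φ hφ
    refine mem_bot.2 (MulEquiv.ext fun g => hinj ?_)
    rw [← key, ← mem_centralizer_iff.1 hφ (ι g) ⟨g, rfl⟩, mul_inv_cancel_right]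
    rfl
  let e : G ≃* Inn G := MonoidHom.ofInjective hinj
  let S' : Sylow 2 (Inn G) := S.mapSurjective (f := e.toMonoidHom) e.surjective
  have hS' : (S' : Subgroup (Inn G)) = (S : Subgroup G).map e.toMonoidHom :=
    Sylow.coe_mapSurjective _ _
  have hO : oddCore ↥(Inn G) = ⊥ := by
    haveI : IsSimpleGroup (Inn G) := e.symm.isSimpleGroup
    refine (IsSimpleGroup.eq_bot_or_eq_top_of_normal _ (pPrimeCore_normal 2 _)).resolve_right
      fun h => hS1 ?_
    have hodd := CfsgLib.Base.le_oddCore_iff.1 (le_refl (oddCore ↥(Inn G)))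
    rw [show oddCore ↥(Inn G) = ⊤ from h, card_top, ← Nat.card_congr e.toEquiv] at hodd
    obtain ⟨k, hk⟩ := IsPGroup.iff_card.1 S.isPGroup'
    rcases k with _ | k
    · exact eq_bot_of_card_eq _ (by rw [hk, pow_zero])
    · have := (S : Subgroup G).card_subgroup_dvd_card
      rw [hk, pow_succ] at this
      exact absurd hodd (Nat.not_odd_iff_even.2
        (even_iff_two_dvd.2 ((dvd_mul_left 2 _).trans this)))
  let L := stab (S : Subgroup G)
  let K : Subgroup (MulAut G) := (restr (S : Subgroup G)).ker.map L.subtype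
  haveI : Group.IsSolvable K := by
    refine CentralizedSylow.isSolvable_of_le_centralizer_sylow hFT hC hO S' ?_
    rintro _ ⟨φ, hφ, rfl⟩
    rw [mem_centralizer_iff]
    rintro _ ⟨y, hy, rfl⟩
    rw [hS'] at hy
    obtain ⟨s, hs, rfl⟩ := hy
    have h1 : φ.1 s = s := by
      have := congrArg Subtype.val (DFunLike.congr_fun (MonoidHom.mem_ker.1 hφ) ⟨s, hs⟩)
      exact this
    have h3 := mul_inv_eq_iff_eq_mul.1 (key φ.1 s)
    rw [h1] at h3
    exact h3.symm
  haveI : Group.IsSolvable L := by
    haveI : Group.IsSolvable (restr (S : Subgroup G)).ker :=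
      Group.isSolvable_of_isSolvable_injective
        (f := (equivMapOfInjective (restr (S : Subgroup G)).ker L.subtype
          Subtype.val_injective).toMonoidHom)
        (equivMapOfInjective (restr (S : Subgroup G)).ker L.subtype Subtype.val_injective).injective
    exact solvable_of_ker_le_range (restr (S : Subgroup G)).ker.subtype
      (restr (S : Subgroup G)).rangeRestrict (by rw [MonoidHom.ker_rangeRestrict, range_subtype])
  refine Group.isSolvable_of_surjective (f := (QuotientGroup.mk' (Inn G)).comp L.subtype) fun q => ?_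
  obtain ⟨φ, rfl⟩ := QuotientGroup.mk'_surjective _ q
  obtain ⟨g, hg⟩ := MulAction.exists_smul_eq G (S.mapSurjective (f := φ.toMonoidHom) φ.surjective) S
  have hg' := congrArg (fun P : Sylow 2 G => (P : Subgroup G)) hg
  simp only [Sylow.coe_subgroup_smul] at hg'
  change MulAut.conj g • (S : Subgroup G).map φ.toMonoidHom = S at hg'
  have hmem : ι g * φ ∈ L := by
    have hmap : (S : Subgroup G).map (ι g * φ).toMonoidHom = S := by
      rw [show (ι g * φ).toMonoidHom = (ι g).toMonoidHom.comp φ.toMonoidHom from rfl,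
        ← Subgroup.map_map]
      exact hg'
    intro x
    constructor
    · intro hx
      rw [← hmap]
      exact ⟨x, hx, rfl⟩
    · intro hx
      rw [← hmap] at hx
      obtain ⟨y, hy, he⟩ := hx
      rwa [← (ι g * φ).injective he]
  refine ⟨⟨_, hmem⟩, ?_⟩
  change QuotientGroup.mk' (Inn G) (ι g * φ) = QuotientGroup.mk' (Inn G) φ
  rw [map_mul, show QuotientGroup.mk' (Inn G) (ι g) = 1 from
    (QuotientGroup.eq_one_iff _).2 ⟨g, rfl⟩, one_mul]

section Frattini

variable {S : Type u} [Group S] [Finite S]

/-- The action of automorphisms on the Frattini quotient. -/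
noncomputable def frattAut : MulAut S →* MulAut (S ⧸ frattini S) :=
  MonoidHom.mk' (PGroups.MetacyclicTwoAut.quotAut (frattini S)) fun a b => MulEquiv.ext fun q => by
    induction q using QuotientGroup.induction_on with
    | _ x => simp only [MulAut.mul_apply, PGroups.MetacyclicTwoAut.quotAut_mk]

theorem frattAut_mk (α : MulAut S) (x : S) : frattAut α x = (α x : S ⧸ frattini S) :=
  PGroups.MetacyclicTwoAut.quotAut_mk _ _ _

variable (h2 : IsPGroup 2 S)
include h2

theorem mul_self_quot (q : S ⧸ frattini S) : q * q = 1 := by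
  haveI : Fact (Nat.Prime 2) := ⟨Nat.prime_two⟩
  induction q using QuotientGroup.induction_on with
  | _ x =>
    rw [← QuotientGroup.mk_mul, QuotientGroup.eq_one_iff, ← pow_two]
    exact PGroups.pow_mem_frattini h2 x

theorem comm_quot (a b : S ⧸ frattini S) : a * b = b * a := by
  have h := mul_self_quot h2
  have e : ∀ c : S ⧸ frattini S, c⁻¹ = c := fun c => inv_eq_of_mul_eq_one_right (h c)
  rw [← e (a * b), mul_inv_rev, e a, e b]

/-- The kernel of the action on the Frattini quotient is a 2-group. -/
theorem isPGroup_ker : IsPGroup 2 (frattAut (S := S)).ker := by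
  haveI : Fact (Nat.Prime 2) := ⟨Nat.prime_two⟩
  have hall : ∀ r : ℕ, r.Prime → r ∣ Nat.card (frattAut (S := S)).ker → r = 2 := by
    intro r hr hdvd
    by_contra hr2
    haveI : Fact r.Prime := ⟨hr⟩
    obtain ⟨α, hα⟩ := exists_prime_orderOf_dvd_card' r hdvd
    have h1 : (α : MulAut S) = 1 := PGroups.MetacyclicTwoAut.eq_one_of_trivial h2 hr2
      (by rw [← hα, ← orderOf_coe]; exact pow_orderOf_eq_one _) fun x => by
        rw [← QuotientGroup.eq, ← frattAut_mk, MonoidHom.mem_ker.1 α.2]
        rfl
    rw [show α = 1 from Subtype.ext h1, orderOf_one] at hα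
    exact hr.ne_one hα.symm
  obtain hk := Nat.eq_prime_pow_of_unique_prime_dvd Nat.card_pos.ne'
    (fun {d} hd hdvd => hall d hd hdvd)
  exact IsPGroup.of_card hk

/-- A group of automorphisms is solvable if it acts solvably on the Frattini quotient. -/
theorem isSolvable_of_frattAut (R : Subgroup (MulAut S))
    [Group.IsSolvable (R.map (frattAut (S := S)))] : Group.IsSolvable R := by
  haveI : Fact (Nat.Prime 2) := ⟨Nat.prime_two⟩
  let f := (frattAut (S := S)).subgroupMap R
  have hk : IsPGroup 2 f.ker := by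
    refine (isPGroup_ker h2).of_injective
      ((R.subtype.comp f.ker.subtype).codRestrict _ fun x => ?_) fun x y h => ?_
    · exact MonoidHom.mem_ker.2 (congrArg Subtype.val (MonoidHom.mem_ker.1 x.2))
    · exact Subtype.ext (Subtype.ext
        (congrArg (fun z : (frattAut (S := S)).ker => (z : MulAut S)) h))
  haveI := hk.isNilpotent
  exact solvable_of_ker_le_range f.ker.subtype f (by rw [range_subtype])

/-- Two elements generate at most four elements in the quotient. -/
theorem mem_pair (x y : S ⧸ frattini S) {z : S ⧸ frattini S}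
    (hz : z ∈ closure ({x, y} : Set (S ⧸ frattini S))) : z = 1 ∨ z = x ∨ z = y ∨ z = x * y := by
  have h := mul_self_quot h2
  have hc := comm_quot h2
  induction hz using Subgroup.closure_induction with
  | mem z hz =>
    rcases hz with rfl | hz
    · exact .inr (.inl rfl)
    · exact .inr (.inr (.inl hz))
  | one => exact .inl rfl
  | mul a b _ _ ha hb =>
    have e1 : x * (x * y) = y := by rw [← mul_assoc, h, one_mul]
    have e2 : y * (x * y) = x := by rw [hc x y, ← mul_assoc, h, one_mul]
    rcases ha with ha | ha | ha | ha <;> rcases hb with hb | hb | hb | hb <;>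
      simp [ha, hb, h, e1, e2, hc y x, hc (x * y) x, hc (x * y) y]
  | inv a _ ha => rwa [inv_eq_of_mul_eq_one_right (h a)]

theorem closure_image_top {T : Set S} (hT : closure T = ⊤) :
    closure ((QuotientGroup.mk : S → S ⧸ frattini S) '' T) = ⊤ := by
  have := MonoidHom.map_closure (QuotientGroup.mk' (frattini S)) T
  rw [hT, Subgroup.map_top_of_surjective _ (QuotientGroup.mk'_surjective _)] at this
  exact this.symm

/-- A group with two generators has at most four elements in its Frattini quotient. -/
theorem card_quot_le_four {x y : S ⧸ frattini S}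
    (hgen : closure ({x, y} : Set (S ⧸ frattini S)) = ⊤) : Nat.card (S ⧸ frattini S) ≤ 4 := by
  classical
  haveI := Fintype.ofFinite (S ⧸ frattini S)
  rw [Nat.card_eq_fintype_card, ← Finset.card_univ]
  refine (Finset.card_le_card (t := {1, x, y, x * y}) fun z _ => ?_).trans Finset.card_le_four
  have := mem_pair h2 x y (z := z) (hgen ▸ mem_top z)
  simpa using this

/-- An automorphism group of a two-generated 2-group is solvable. -/
theorem isSolvable_mulAut_two {a b : S} (hgen : closure ({a, b} : Set S) = ⊤)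
    (R : Subgroup (MulAut S)) : Group.IsSolvable R := by
  have hq : closure ({(a : S ⧸ frattini S), (b : S ⧸ frattini S)} : Set (S ⧸ frattini S)) = ⊤ := by
    rw [← Set.image_pair]
    exact closure_image_top h2 hgen
  have hc := card_quot_le_four h2 hq
  haveI : Group.IsSolvable (R.map (frattAut (S := S))) := by
    refine CfsgLib.Recog.isSolvable_of_card_lt_sixty ?_
    have hle := Nat.card_le_card_of_injective
      (fun φ : R.map (frattAut (S := S)) => (φ.1 (a : S ⧸ frattini S), φ.1 (b : S ⧸ frattini S)))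
      fun φ ψ h => Subtype.ext (MulEquiv.toMonoidHom_injective
        (MonoidHom.eq_of_eqOn_dense hq (by
          rintro z (rfl | rfl)
          · exact (Prod.ext_iff.1 h).1
          · exact (Prod.ext_iff.1 h).2)))
    rw [Nat.card_prod] at hle
    nlinarith
  exact isSolvable_of_frattAut h2 R

/-- At most 168 automorphisms act on a three-generated Frattini quotient. -/
theorem card_le_of_three {a b c : S} (hgen : closure ({a, b, c} : Set S) = ⊤)
    (J : Subgroup (MulAut (S ⧸ frattini S))) : Nat.card J ≤ 168 := by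
  classical
  haveI := Fintype.ofFinite (S ⧸ frattini S)
  haveI := Fintype.ofFinite J
  have hq : closure ({(a : S ⧸ frattini S), (b : S ⧸ frattini S), (c : S ⧸ frattini S)} :
      Set (S ⧸ frattini S)) = ⊤ := by
    rw [← Set.image_pair, ← Set.image_insert_eq]
    exact closure_image_top h2 hgen
  set u : S ⧸ frattini S := (a : S ⧸ frattini S)
  set v : S ⧸ frattini S := (b : S ⧸ frattini S)
  set w : S ⧸ frattini S := (c : S ⧸ frattini S)
  let F : J → (S ⧸ frattini S) × (S ⧸ frattini S) × (S ⧸ frattini S) :=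
    fun φ => (φ.1 u, φ.1 v, φ.1 w)
  have hF : Function.Injective F := fun φ ψ h => by
    simp only [F, Prod.mk.injEq] at h
    exact Subtype.ext (MulEquiv.toMonoidHom_injective (MonoidHom.eq_of_eqOn_dense hq (by
      rintro z (rfl | rfl | rfl)
      exacts [h.1, h.2.1, h.2.2])))
  have key : ∀ z : S ⧸ frattini S, ∃ p ∈ closure ({u, v} : Set (S ⧸ frattini S)),
      z = p ∨ z = p * w := by
    intro z
    have hz : z ∈ closure ({u, v, w} : Set (S ⧸ frattini S)) := hq ▸ mem_top z
    induction hz using Subgroup.closure_induction with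
    | mem z hz =>
      rcases hz with rfl | rfl | rfl
      · exact ⟨_, subset_closure (.inl rfl), .inl rfl⟩
      · exact ⟨_, subset_closure (.inr rfl), .inl rfl⟩
      · exact ⟨1, one_mem _, .inr (one_mul _).symm⟩
    | one => exact ⟨1, one_mem _, .inl rfl⟩
    | mul s t _ _ hs ht =>
      obtain ⟨p, hp, rfl | rfl⟩ := hs <;> obtain ⟨p', hp', rfl | rfl⟩ := ht <;>
        refine ⟨_, mul_mem hp hp', ?_⟩
      · exact .inl rfl
      · exact .inr (mul_assoc _ _ _).symm
      · exact .inr (by rw [mul_assoc, comm_quot h2 w, ← mul_assoc])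
      · exact .inl (by
          rw [mul_assoc, ← mul_assoc w, comm_quot h2 w p', mul_assoc p', mul_self_quot h2,
            mul_one])
    | inv s _ hs => rwa [inv_eq_of_mul_eq_one_right (mul_self_quot h2 s)]
  have h8 : Fintype.card (S ⧸ frattini S) ≤ 8 := by
    rw [← Finset.card_univ]
    refine (Finset.card_le_card (t := ({1, u, v, u * v} : Finset _) ∪
      ({1, u, v, u * v} : Finset _).image (· * w)) fun z _ => ?_).trans ?_
    · obtain ⟨p, hp, hz'⟩ := key z
      have hp' : p ∈ ({1, u, v, u * v} : Finset _) := by simpa using mem_pair h2 u v hp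
      rcases hz' with rfl | rfl
      · exact Finset.mem_union_left _ hp'
      · exact Finset.mem_union_right _ (Finset.mem_image_of_mem _ hp')
    · have h1 := Finset.card_union_le ({1, u, v, u * v} : Finset _)
        (({1, u, v, u * v} : Finset _).image (· * w))
      have h2 := Finset.card_le_four (a := (1 : S ⧸ frattini S)) (b := u) (c := v) (d := u * v)
      have h3 := (Finset.card_image_le (s := ({1, u, v, u * v} : Finset (S ⧸ frattini S)))
        (f := (· * w))).trans h2
      omega
  rw [Nat.card_eq_fintype_card]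
  rcases le_or_gt (Fintype.card (S ⧸ frattini S)) 4 with h4 | h4
  · refine (Fintype.card_le_of_injective F hF).trans ?_
    rw [Fintype.card_prod, Fintype.card_prod]
    exact (Nat.mul_le_mul h4 (Nat.mul_le_mul h4 h4)).trans (by norm_num)
  have hno : ∀ (φ : J) (x y : S ⧸ frattini S), φ.1 u ∈ closure {x, y} → φ.1 v ∈ closure {x, y} →
      φ.1 w ∈ closure {x, y} → False := by
    intro φ x y h1 h2' h3
    have htop : closure ({x, y} : Set (S ⧸ frattini S)) = ⊤ := by
      rw [eq_top_iff, ← map_top_of_surjective φ.1.toMonoidHom φ.1.surjective, ← hq,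
        MonoidHom.map_closure, closure_le]
      rintro _ ⟨z, (rfl | rfl | rfl), rfl⟩
      exacts [h1, h2', h3]
    have := card_quot_le_four h2 htop
    rw [Nat.card_eq_fintype_card] at this
    omega
  let T := ((Finset.univ : Finset (S ⧸ frattini S)).erase 1).biUnion fun x =>
    (Finset.univ \ {1, x}).biUnion fun y =>
      (Finset.univ \ {1, x, y, x * y}).image fun z => (x, y, z)
  have hmem : ∀ φ : J, F φ ∈ T := by
    intro φ
    simp only [T, F, Finset.mem_biUnion, Finset.mem_erase, Finset.mem_univ, and_true,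
      Finset.mem_sdiff, Finset.mem_insert, Finset.mem_singleton, true_and, Finset.mem_image,
      not_or]
    have hu : φ.1 u ∈ closure ({φ.1 u, φ.1 w} : Set (S ⧸ frattini S)) := subset_closure (.inl rfl)
    have hx : φ.1 u ≠ 1 := fun h =>
      hno φ (φ.1 v) (φ.1 w) (h ▸ one_mem _) (subset_closure (.inl rfl)) (subset_closure (.inr rfl))
    have hy : φ.1 v ≠ 1 ∧ φ.1 v ≠ φ.1 u := by
      constructor <;> intro h <;> refine hno φ _ _ hu ?_ (subset_closure (.inr rfl))
      · rw [h]; exact one_mem _
      · rw [h]; exact hu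
    have hu' : φ.1 u ∈ closure ({φ.1 u, φ.1 v} : Set (S ⧸ frattini S)) := subset_closure (.inl rfl)
    have hv' : φ.1 v ∈ closure ({φ.1 u, φ.1 v} : Set (S ⧸ frattini S)) := subset_closure (.inr rfl)
    refine ⟨_, hx, _, hy, _, ⟨?_, ?_, ?_, ?_⟩, rfl⟩ <;> intro h <;> refine hno φ _ _ hu' hv' ?_ <;>
      rw [h]
    exacts [one_mem _, hu', hv', mul_mem hu' hv']
  have h1 : Fintype.card J ≤ T.card := by
    rw [← Finset.card_univ]
    exact Finset.card_le_card_of_injOn F (fun φ _ => hmem φ) hF.injOn
  refine h1.trans (le_trans (Finset.card_biUnion_le_card_mul _ _ (6 * 4) fun x hx =>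
    (Finset.card_biUnion_le_card_mul _ _ 4 fun y hy => Finset.card_image_le.trans ?_).trans
      (Nat.mul_le_mul_right 4 ?_)) ?_)
  · simp only [Finset.mem_sdiff, Finset.mem_univ, Finset.mem_insert, Finset.mem_singleton,
      true_and, not_or] at hy
    rw [Finset.mem_erase] at hx
    have hxy1 : x * y ≠ 1 := fun h => hy.2 (mul_left_cancel (h.trans (mul_self_quot h2 x).symm))
    rw [Finset.card_sdiff_of_subset (Finset.subset_univ _), Finset.card_univ,
      show ({1, x, y, x * y} : Finset (S ⧸ frattini S)).card = 4 from ?_]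
    · omega
    · simp [hx.1.symm, Ne.symm hy.1, Ne.symm hxy1, Ne.symm hy.2, hy.1, hx.1]
  · rw [Finset.mem_erase] at hx
    rw [Finset.card_sdiff_of_subset (Finset.subset_univ _), Finset.card_univ,
      Finset.card_pair hx.1.symm]
    omega
  · rw [Finset.card_erase_of_mem (Finset.mem_univ _), Finset.card_univ]
    omega

end Frattini

/-- `Out G` is solvable when `S` is two-generated. -/
theorem isSolvable_out_two (hFT : CfsgLib.FT.OddOrderThm.{u}) [IsSimpleGroup G]
    (hG : ¬ IsMulCommutative G) (S : Sylow 2 G) (hS1 : (S : Subgroup G) ≠ ⊥)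
    {a b : ↥S} (hgen : closure ({a, b} : Set ↥S) = ⊤) : Group.IsSolvable (Cfsg.Out G) :=
  isSolvable_out_of_stab hFT hG S hS1
    (isSolvable_mulAut_two (S := (S : Subgroup G)) S.isPGroup' hgen _)

/-- `Out G` is solvable when `S` is three-generated and an odd element acts on it. -/
theorem isSolvable_out_three (hFT : CfsgLib.FT.OddOrderThm.{u}) [IsSimpleGroup G]
    (hG : ¬ IsMulCommutative G) (S : Sylow 2 G) (hS1 : (S : Subgroup G) ≠ ⊥)
    {a b c : ↥S} (hgen : closure ({a, b, c} : Set ↥S) = ⊤) {g : G}
    (hg : g ∈ normalizer ((S : Subgroup G) : Set G)) (hodd : Odd (orderOf g))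
    (hgC : g ∉ centralizer ((S : Subgroup G) : Set G)) : Group.IsSolvable (Cfsg.Out G) := by
  haveI : Fact (Nat.Prime 2) := ⟨Nat.prime_two⟩
  have h2 : IsPGroup 2 ↥(S : Subgroup G) := S.isPGroup'
  refine isSolvable_out_of_stab hFT hG S hS1 ?_
  let χ := (frattAut (S := ↥(S : Subgroup G))).comp (restr (S : Subgroup G))
  let μ := χ.comp (conjStab (S : Subgroup G))
  have hnorm : μ.range.map (MonoidHom.id _) ≤ χ.range := by
    rw [Subgroup.map_id]
    rintro _ ⟨x, rfl⟩
    exact ⟨_, rfl⟩
  rw [Subgroup.map_id] at hnorm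
  haveI hn : (μ.range.subgroupOf χ.range).Normal := by
    refine ⟨?_⟩
    rintro ⟨_, y, rfl⟩ ⟨x, hx⟩ ⟨_, φ, rfl⟩
    have hx' : φ.1 (x : G) ∈ normalizer ((S : Subgroup G) : Set G) := by
      refine mem_normalizer_iff.2 fun z => ?_
      have h1 := φ.2 (φ.1.symm z)
      have h2 := mem_normalizer_iff.1 x.2 (φ.1.symm z)
      have h3 := φ.2 ((x : G) * φ.1.symm z * (x : G)⁻¹)
      rw [MulEquiv.apply_symm_apply] at h1
      rw [map_mul, map_mul, map_inv, MulEquiv.apply_symm_apply] at h3
      exact h1.symm.trans (h2.trans h3)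
    refine mem_subgroupOf.2 ⟨⟨_, hx'⟩, ?_⟩
    change χ (conjStab _ ⟨_, hx'⟩) = χ φ * χ y * (χ φ)⁻¹
    have hx'' : χ (conjStab _ x) = χ y := hx
    rw [← hx'']
    rw [← map_inv, ← map_mul, ← map_mul]
    congr 1
    refine Subtype.ext (MulEquiv.ext fun z => ?_)
    simp [conjStab]
  -- odd order
  have hker : (S : Subgroup G).subgroupOf (normalizer ((S : Subgroup G) : Set G)) ≤ μ.ker := by
    intro s hs
    refine MonoidHom.mem_ker.2 (MulEquiv.ext fun q => ?_)
    induction q using QuotientGroup.induction_on with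
    | _ x =>
      change frattAut _ (x : ↥(S : Subgroup G) ⧸ frattini ↥(S : Subgroup G)) = x
      rw [frattAut_mk]
      have e : restr (S : Subgroup G) (conjStab _ s) x =
          (⟨s, hs⟩ : ↥(S : Subgroup G)) * x * (⟨s, hs⟩ : ↥(S : Subgroup G))⁻¹ :=
        Subtype.ext rfl
      rw [e, QuotientGroup.mk_mul, QuotientGroup.mk_mul, comm_quot h2 (⟨s, hs⟩ : ↥(S : Subgroup G)),
        QuotientGroup.mk_inv, mul_inv_cancel_right]
  have hcodd : Odd (Nat.card μ.range) := by
    have hd : Nat.card μ.range ∣ (S : Subgroup G).index := by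
      rw [← Nat.card_congr (QuotientGroup.quotientKerEquivRange μ).toEquiv, ← index_eq_card,
        ← relIndex_mul_index (le_normalizer (H := (S : Subgroup G)))]
      exact (index_dvd_of_le hker).trans (dvd_mul_right _ _)
    rw [Nat.odd_iff, ← Nat.two_dvd_ne_zero]
    exact fun h => S.not_dvd_index (h.trans hd)
  have hne : 3 ≤ Nat.card μ.range := by
    by_contra hlt
    have h1 : Nat.card μ.range = 1 := by
      have := hcodd.pos
      obtain ⟨k, hk⟩ := hcodd
      omega
    apply hgC
    have hμ : μ ⟨g, hg⟩ = 1 := by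
      have := eq_bot_of_card_eq _ h1
      exact mem_bot.1 (this ▸ MonoidHom.mem_range.2 ⟨_, rfl⟩)
    let ν := (restr (S : Subgroup G)).comp (conjStab (S : Subgroup G))
    obtain ⟨k, hk⟩ := IsPGroup.iff_orderOf.1 (isPGroup_ker h2)
      ⟨ν ⟨g, hg⟩, MonoidHom.mem_ker.2 hμ⟩
    rw [Subgroup.orderOf_mk] at hk
    have hdvd : orderOf (ν ⟨g, hg⟩) ∣ orderOf g := by
      rw [← Subgroup.orderOf_mk g hg]
      exact orderOf_map_dvd _ _
    have hν : ν ⟨g, hg⟩ = 1 := by
      rw [← orderOf_eq_one_iff, hk]
      rw [hk] at hdvd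
      rcases k with _ | k
      · rfl
      · exact absurd hodd (Nat.not_odd_iff_even.2
          (even_iff_two_dvd.2 ((dvd_pow_self 2 k.succ_ne_zero).trans hdvd)))
    rw [mem_centralizer_iff]
    intro s hs
    have := congrArg Subtype.val (DFunLike.congr_fun hν ⟨s, hs⟩)
    change g * s * g⁻¹ = s at this
    exact (mul_inv_eq_iff_eq_mul.1 this).symm
  have hbound : Nat.card χ.range ≤ 168 := card_le_of_three h2 hgen _
  haveI : Group.IsSolvable (μ.range.subgroupOf χ.range) := hFT _ (by
    rwa [Nat.card_congr (subgroupOfEquivOfLe hnorm).toEquiv])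
  haveI : Group.IsSolvable (χ.range ⧸ μ.range.subgroupOf χ.range) := by
    refine CfsgLib.Recog.isSolvable_of_card_lt_sixty ?_
    have := card_eq_card_quotient_mul_card_subgroup (μ.range.subgroupOf χ.range)
    rw [Nat.card_congr (subgroupOfEquivOfLe hnorm).toEquiv] at this
    nlinarith
  haveI : Group.IsSolvable χ.range := solvable_of_ker_le_range (μ.range.subgroupOf χ.range).subtype
    (QuotientGroup.mk' (μ.range.subgroupOf χ.range)) (by rw [QuotientGroup.ker_mk', range_subtype])
  haveI : Group.IsSolvable ((restr (S : Subgroup G)).range.map frattAut) := by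
    rw [← MonoidHom.range_comp]
    infer_instance
  exact isSolvable_of_frattAut h2 _

end CfsgLib.Involutions.OutOmega
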